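import Mathlib.RingTheory.AdicCompletion.Basic
import Mathlib.RingTheory.Nilpotent.Lemmas
import Mathlib.RingTheory.Ideal.Operations
import Mathlib.RingTheory.Finiteness.Ideal

/-!
Small facts on nilpotent ideals used for adic formal smoothness.
-/

set_option autoImplicit false
universe u v w

namespace K99.NilpPow

/-- Modules over a ring with `I ^ n = ⊥` are `I`-adically complete. -/
theorem isAdicComplete_of_pow_eq_bot {A : Type u} [CommRing A] (I : Ideal A) (n : ℕ) (h : I ^ n = ⊥)
    (M : Type v) [AddCommGroup M] [Module A M] : IsAdicComplete I M where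
  haus' := by
    intro x hx
    have := hx n
    rw [h, Submodule.bot_smul, SModEq.bot] at this
    exact this
  prec' := by
    intro f hf
    refine ⟨f n, fun m => ?_⟩
    rcases le_total m n with hmn | hmn
    · exact hf hmn
    · have h1 := hf hmn
      rw [h, Submodule.bot_smul, SModEq.bot] at h1
      rw [← h1]

/-- `(I + J)^(a+b) ⊆ I^a + J^b`. -/
theorem sup_pow_add_le {R : Type u} [CommRing R] (I J : Ideal R) (a b : ℕ) :
    (I ⊔ J) ^ (a + b) ≤ I ^ a ⊔ J ^ b :=
  Ideal.sup_pow_add_le_pow_sup_pow

/-- a finitely generated ideal generated by nilpotent elements is nilpotent -/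
theorem isNilpotent_span_range {R : Type u} [CommRing R] {ι : Type v} [Finite ι] (z : ι → R)
    (hz : ∀ i, IsNilpotent (z i)) : ∃ n : ℕ, Ideal.span (Set.range z) ^ n = ⊥ := by
  have h : Ideal.span (Set.range z) ≤ nilradical R := by
    rw [Ideal.span_le]
    rintro _ ⟨i, rfl⟩
    exact hz i
  obtain ⟨n, hn⟩ := Ideal.exists_pow_le_of_le_radical_of_fg h
    ((Submodule.fg_span (Set.finite_range z)))
  exact ⟨n, le_bot_iff.mp hn⟩

end K99.NilpPow
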