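import Groth.Agent.EGA41.K99.AdicTop
import Groth.Agent.Ega41.AdicRed

/-!
For a continuous structure map the topology of the base plays no role in `EGA41.IsFormallySmoothAdic`.
-/

set_option autoImplicit false
universe u v w

namespace K99.AdicBase

variable {A B : Type u} [CommRing A] [CommRing B] [Algebra A B]

theorem of_bot {𝔟 : Ideal B} (h : EGA41.IsFormallySmoothAdic A ⊥ B 𝔟) (𝔞 : Ideal A) :
    EGA41.IsFormallySmoothAdic A 𝔞 B 𝔟 := by
  intro C _ _ J hJ _ u hu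
  exact h C J hJ ⟨1, by simp⟩ u hu

theorem to_bot {𝔞 : Ideal A} {𝔟 : Ideal B} (hab : ∃ k : ℕ, (𝔞 ^ k).map (algebraMap A B) ≤ 𝔟)
    (h : EGA41.IsFormallySmoothAdic A 𝔞 B 𝔟) : EGA41.IsFormallySmoothAdic A ⊥ B 𝔟 := by
  obtain ⟨r, hr⟩ := hab
  intro C _ _ J hJ _ u hu
  obtain ⟨N, hN⟩ := hJ
  obtain ⟨k, hk⟩ := hu
  refine h C J ⟨N, hN⟩ ⟨r * k * N, ?_⟩ u ⟨k, hk⟩
  have h1 : (𝔞 ^ (r * k)).map (algebraMap A C) ≤ J := by
    rw [Ideal.map_le_iff_le_comap]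
    intro x hx
    rw [Ideal.mem_comap, ← Ideal.Quotient.eq_zero_iff_mem]
    have h2 : algebraMap A B x ∈ 𝔟 ^ k := by
      have h3 : algebraMap A B x ∈ (𝔞 ^ (r * k)).map (algebraMap A B) := Ideal.mem_map_of_mem _ hx
      rw [pow_mul, Ideal.map_pow] at h3
      exact Ideal.pow_right_mono hr k h3
    have h4 := hk _ h2
    rw [u.commutes] at h4
    exact h4
  rw [eq_bot_iff, pow_mul, Ideal.map_pow]
  refine (Ideal.pow_right_mono h1 N).trans ?_
  rw [hN]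
  exact le_rfl

/-- For a continuous structure map the topology on the base does not matter. -/
theorem iff_isAdicFormallySmooth {𝔞 : Ideal A} {𝔟 : Ideal B}
    (hab : ∃ k : ℕ, (𝔞 ^ k).map (algebraMap A B) ≤ 𝔟) :
    EGA41.IsFormallySmoothAdic A 𝔞 B 𝔟 ↔ CAlgX.IsAdicFormallySmooth A B 𝔟 := by
  rw [Groth.Agent.Ega41.AdicRed.isAdicFormallySmooth_iff]
  exact ⟨to_bot hab, fun h => of_bot h 𝔞⟩

end K99.AdicBase
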