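import Groth.Agent.Ega41.AdicRed

/-!
Formal smoothness of `B/𝔞B` over `A/𝔞` as a lifting property of `A`-algebra maps out of `B`.
-/

set_option autoImplicit false
universe u v w

namespace K99.AdicQuot

variable {A B : Type u} [CommRing A] [CommRing B] [Algebra A B]

/-- Lifting of `A`-algebra maps out of `B`, continuous for the `𝔟`-adic topology, into `A`-algebras killed by `𝔞`. -/
def QLift (𝔞 : Ideal A) (𝔟 : Ideal B) : Prop :=
  ∀ (C D : Type u) [CommRing C] [CommRing D] [Algebra A C] [Algebra A D] (q : C →ₐ[A] D),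
    Function.Surjective q → IsNilpotent (RingHom.ker q) → (∀ a ∈ 𝔞, algebraMap A C a = 0) →
      ∀ u : B →ₐ[A] D, (∃ k : ℕ, ∀ x ∈ 𝔟 ^ k, u x = 0) → ∃ v : B →ₐ[A] C, q.comp v = u

theorem qLift_of {𝔞 : Ideal A} {𝔟 : Ideal B}
    (h : EGA41.IsFormallySmoothAdic (A ⧸ 𝔞) ⊥ (B ⧸ 𝔞.map (algebraMap A B))
      (𝔟.map (Ideal.Quotient.mk (𝔞.map (algebraMap A B))))) : QLift 𝔞 𝔟 := by
  intro C D _ _ _ _ q hq hnil hC u ⟨k, hk⟩
  have hD : ∀ a ∈ 𝔞, algebraMap A D a = 0 := fun a ha => by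
    rw [← q.commutes, hC a ha, map_zero]
  letI : Algebra (A ⧸ 𝔞) C := (Ideal.Quotient.lift 𝔞 (algebraMap A C) hC).toAlgebra
  letI : Algebra (A ⧸ 𝔞) D := (Ideal.Quotient.lift 𝔞 (algebraMap A D) hD).toAlgebra
  have hCa : ∀ a, algebraMap (A ⧸ 𝔞) C (Ideal.Quotient.mk 𝔞 a) = algebraMap A C a := fun a => rfl
  have hDa : ∀ a, algebraMap (A ⧸ 𝔞) D (Ideal.Quotient.mk 𝔞 a) = algebraMap A D a := fun a => rfl
  let q₀ : C →ₐ[A ⧸ 𝔞] D :=
    { (q : C →+* D) with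
      commutes' := by
        intro a
        obtain ⟨a, rfl⟩ := Ideal.Quotient.mk_surjective a
        exact (congrArg q (hCa a)).trans ((q.commutes a).trans (hDa a).symm) }
  have hu : ∀ x ∈ 𝔞.map (algebraMap A B), u x = 0 := by
    intro x hx
    have h1 : 𝔞.map (algebraMap A B) ≤ RingHom.ker (u : B →+* D) := by
      rw [Ideal.map_le_iff_le_comap]
      intro a ha
      change u (algebraMap A B a) = 0
      rw [u.commutes, hD a ha]
    exact h1 hx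
  let u₀ : (B ⧸ 𝔞.map (algebraMap A B)) →ₐ[A ⧸ 𝔞] D :=
    { Ideal.Quotient.lift (𝔞.map (algebraMap A B)) (u : B →+* D) hu with
      commutes' := by
        intro a
        obtain ⟨a, rfl⟩ := Ideal.Quotient.mk_surjective a
        change u (algebraMap A B a) = _
        rw [u.commutes]
        rfl }
  have hu₀ : ∀ b, u₀ (Ideal.Quotient.mk _ b) = u b := fun b => rfl
  obtain ⟨v, hv⟩ := Groth.Agent.Ega41.AdicRed.exists_lift h q₀ hq hnil u₀ ⟨1, by simp⟩ ⟨k, by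
    rw [← Ideal.map_pow]
    intro x hx
    have h1 : (𝔟 ^ k).map (Ideal.Quotient.mk (𝔞.map (algebraMap A B))) ≤
        RingHom.ker (u₀ : _ →+* D) := by
      rw [Ideal.map_le_iff_le_comap]
      intro b hb
      exact hk b hb
    exact h1 hx⟩
  refine ⟨{ (v : _ →+* C).comp (Ideal.Quotient.mk (𝔞.map (algebraMap A B))) with
    commutes' := fun a => v.commutes (Ideal.Quotient.mk 𝔞 a) }, ?_⟩
  ext b
  exact (AlgHom.congr_fun hv (Ideal.Quotient.mk _ b)).trans (hu₀ b)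

theorem of_qLift {𝔞 : Ideal A} {𝔟 : Ideal B} (h : QLift 𝔞 𝔟) :
    EGA41.IsFormallySmoothAdic (A ⧸ 𝔞) ⊥ (B ⧸ 𝔞.map (algebraMap A B))
      (𝔟.map (Ideal.Quotient.mk (𝔞.map (algebraMap A B)))) := by
  intro C _ _ J hJ _ u ⟨k, hk⟩
  letI : Algebra A C := ((algebraMap (A ⧸ 𝔞) C).comp (Ideal.Quotient.mk 𝔞)).toAlgebra
  have hC : ∀ a ∈ 𝔞, algebraMap A C a = 0 := fun a ha => by
    change algebraMap (A ⧸ 𝔞) C (Ideal.Quotient.mk 𝔞 a) = 0
    rw [Ideal.Quotient.eq_zero_iff_mem.mpr ha, map_zero]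
  have hnil : IsNilpotent (RingHom.ker (Ideal.Quotient.mkₐ A J)) := by
    have : RingHom.ker (Ideal.Quotient.mkₐ A J) = J := by
      ext x
      exact Ideal.Quotient.eq_zero_iff_mem
    rw [this]
    exact hJ
  let u' : B →ₐ[A] C ⧸ J :=
    { (u : _ →+* C ⧸ J).comp (Ideal.Quotient.mk (𝔞.map (algebraMap A B))) with
      commutes' := fun a => u.commutes (Ideal.Quotient.mk 𝔞 a) }
  obtain ⟨v, hv⟩ := h C (C ⧸ J) (Ideal.Quotient.mkₐ A J) (Ideal.Quotient.mkₐ_surjective A J) hnil hC u'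
    ⟨k, fun x hx => hk _ (by
      rw [← Ideal.map_pow]
      exact Ideal.mem_map_of_mem _ hx)⟩
  have hv0 : ∀ x ∈ 𝔞.map (algebraMap A B), v x = 0 := by
    intro x hx
    have h1 : 𝔞.map (algebraMap A B) ≤ RingHom.ker (v : B →+* C) := by
      rw [Ideal.map_le_iff_le_comap]
      intro a ha
      change v (algebraMap A B a) = 0
      rw [v.commutes, hC a ha]
    exact h1 hx
  refine ⟨{ Ideal.Quotient.lift (𝔞.map (algebraMap A B)) (v : B →+* C) hv0 with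
    commutes' := by
      intro a
      obtain ⟨a, rfl⟩ := Ideal.Quotient.mk_surjective a
      exact v.commutes a }, ?_⟩
  refine AlgHom.ext fun x => ?_
  obtain ⟨b, rfl⟩ := Ideal.Quotient.mk_surjective x
  exact AlgHom.congr_fun hv b

theorem qLift_iff {𝔞 : Ideal A} {𝔟 : Ideal B} :
    EGA41.IsFormallySmoothAdic (A ⧸ 𝔞) ⊥ (B ⧸ 𝔞.map (algebraMap A B))
      (𝔟.map (Ideal.Quotient.mk (𝔞.map (algebraMap A B)))) ↔ QLift 𝔞 𝔟 :=
  ⟨qLift_of, of_qLift⟩

/-- A formally smooth algebra has the lifting property modulo `𝔞`. -/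
theorem qLift_of_isFormallySmoothAdic {𝔞 : Ideal A} {𝔟 : Ideal B}
    (h : EGA41.IsFormallySmoothAdic A 𝔞 B 𝔟) : QLift 𝔞 𝔟 := by
  intro C D _ _ _ _ q hq hnil hC u hu
  refine Groth.Agent.Ega41.AdicRed.exists_lift h q hq hnil u ⟨1, ?_⟩ hu
  rw [pow_one, Ideal.map_eq_bot_iff_le_ker]
  exact fun a ha => hC a ha

end K99.AdicQuot
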