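import Mathlib.RingTheory.DiscreteValuationRing.TFAE
import Mathlib.RingTheory.Filtration

/-!
A Noetherian local ring whose maximal ideal is generated by a non-nilpotent element is a discrete valuation ring.
-/

set_option autoImplicit false
universe u

open IsLocalRing

namespace K99.DvrPrinc

variable {S : Type u} [CommRing S] [IsLocalRing S] [IsNoetherianRing S] {p : S}

theorem exists_unit_mul_pow (hp : maximalIdeal S = Ideal.span {p}) {x : S} (hx : x ≠ 0) :
    ∃ (n : ℕ) (u : S), IsUnit u ∧ x = u * p ^ n := by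
  classical
  have h1 : ∃ n : ℕ, x ∉ (maximalIdeal S) ^ n := by
    by_contra hcon
    push Not at hcon
    have h0 : x ∈ ⨅ n : ℕ, (maximalIdeal S) ^ n := by
      rw [Ideal.mem_iInf]
      exact hcon
    rw [Ideal.iInf_pow_eq_bot_of_isLocalRing _ (maximalIdeal.isMaximal S).ne_top] at h0
    exact hx h0
  set n := Nat.find h1 with hn
  have h2 : x ∉ (maximalIdeal S) ^ n := Nat.find_spec h1
  have hn0 : n ≠ 0 := by
    intro h0
    rw [h0] at h2
    simp at h2
  obtain ⟨m, hm⟩ := Nat.exists_eq_succ_of_ne_zero hn0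
  have h3 : x ∈ (maximalIdeal S) ^ m := by
    by_contra hcon
    have := Nat.find_min' h1 hcon
    omega
  rw [hp, Ideal.span_singleton_pow, Ideal.mem_span_singleton'] at h3
  obtain ⟨u, hu⟩ := h3
  refine ⟨m, u, ?_, hu.symm⟩
  by_contra hnu
  apply h2
  have hu' : u ∈ maximalIdeal S := (mem_maximalIdeal u).2 hnu
  rw [hm, pow_succ', ← hu]
  exact Ideal.mul_mem_mul hu' (by rw [hp]; exact Ideal.pow_mem_pow (Ideal.mem_span_singleton_self p) m)

theorem isDomain (hp : maximalIdeal S = Ideal.span {p}) (hn : ¬ IsNilpotent p) : IsDomain S := by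
  have : NoZeroDivisors S := by
    refine ⟨fun {a b} hab => ?_⟩
    by_contra hcon
    push Not at hcon
    obtain ⟨n, u, hu, rfl⟩ := exists_unit_mul_pow hp hcon.1
    obtain ⟨m, v, hv, rfl⟩ := exists_unit_mul_pow hp hcon.2
    apply hn
    refine ⟨n + m, ?_⟩
    have h1 : (u * v) * p ^ (n + m) = 0 := by rw [← hab]; ring
    exact (hu.mul hv).mul_right_eq_zero.1 h1
  exact NoZeroDivisors.to_isDomain S

theorem isDiscreteValuationRing (hp : maximalIdeal S = Ideal.span {p}) (hn : ¬ IsNilpotent p)
    [IsDomain S] : IsDiscreteValuationRing S := by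
  have hnf : ¬ IsField S := by
    rw [IsLocalRing.isField_iff_maximalIdeal_eq, hp, Ideal.span_singleton_eq_bot]
    rintro rfl
    exact hn ⟨1, by simp⟩
  have := ((IsDiscreteValuationRing.TFAE S hnf).out 0 4).2
    (by rw [hp]; exact ⟨⟨p, rfl⟩⟩)
  exact this

end K99.DvrPrinc
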