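import Groth.Agent.Ega41.AdicRed
import Mathlib.RingTheory.Flat.FaithfullyFlat.Basic
import Mathlib.LinearAlgebra.TensorProduct.RightExactness
import Mathlib.RingTheory.TensorProduct.Maps

/-!
Base change and descent of `EGA41.IsFormallySmoothAdic` along a projective faithfully flat algebra.
-/

set_option autoImplicit false
universe u v w

open TensorProduct

namespace K99.FFDescent

/-- A projective faithfully flat algebra has a linear retraction onto the base. -/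
theorem exists_retraction (A : Type u) (A' : Type v) [CommRing A] [CommRing A'] [Algebra A A']
    [Module.FaithfullyFlat A A'] [Module.Projective A A'] : ∃ r : A' →ₗ[A] A, r 1 = 1 := by
  let I : Ideal A := LinearMap.range (LinearMap.applyₗ (1 : A') : (A' →ₗ[A] A) →ₗ[A] A)
  have hI : I = ⊤ := by
    by_contra hne
    obtain ⟨m, hm, hIm⟩ := Ideal.exists_le_maximal I hne
    refine Module.FaithfullyFlat.submodule_ne_top (M := A') hm ?_
    obtain ⟨s, hs⟩ := Module.projective_def'.mp (inferInstance : Module.Projective A A')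
    have h1 : (1 : A') ∈ (m • ⊤ : Submodule A A') := by
      have h2 : Finsupp.linearCombination A id (s 1) = (1 : A') := LinearMap.congr_fun hs 1
      rw [← h2, Finsupp.linearCombination_apply]
      refine Submodule.sum_mem _ fun x _ => Submodule.smul_mem_smul ?_ trivial
      exact hIm ⟨(Finsupp.lapply x) ∘ₗ s, rfl⟩
    rw [Ideal.smul_top_eq_map] at h1 ⊢
    rw [Submodule.restrictScalars_mem] at h1
    rw [(Ideal.eq_top_iff_one _).mpr h1]
    rfl
  have h1 : (1 : A) ∈ I := hI ▸ trivial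
  obtain ⟨r, hr⟩ := h1
  exact ⟨r, hr⟩

variable {A B A' : Type u} [CommRing A] [CommRing B] [CommRing A'] [Algebra A B] [Algebra A A']

theorem baseChange {𝔞 : Ideal A} {𝔟 : Ideal B} (h : EGA41.IsFormallySmoothAdic A 𝔞 B 𝔟) :
    EGA41.IsFormallySmoothAdic A' (𝔞.map (algebraMap A A')) (A' ⊗[A] B)
        ((𝔞.map (algebraMap A A')).map (algebraMap A' (A' ⊗[A] B)) ⊔
          𝔟.map (Algebra.TensorProduct.includeRight : B →ₐ[A] A' ⊗[A] B).toRingHom) := by
  intro C _ _ J hJ ⟨k, hk⟩ u ⟨l, hl⟩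
  letI : Algebra A C := ((algebraMap A' C).comp (algebraMap A A')).toAlgebra
  haveI : IsScalarTower A A' C := IsScalarTower.of_algebraMap_eq (fun _ => rfl)
  let u' : B →ₐ[A] C ⧸ J := (u.restrictScalars A).comp Algebra.TensorProduct.includeRight
  obtain ⟨v, hv⟩ := h C J hJ ⟨k, by
    rw [← Ideal.map_pow, Ideal.map_map] at hk
    exact hk⟩ u' ⟨l, fun x hx => by
    refine hl _ (Ideal.pow_right_mono le_sup_right l ?_)
    rw [← Ideal.map_pow]
    exact Ideal.mem_map_of_mem _ hx⟩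
  refine ⟨Algebra.TensorProduct.lift (Algebra.ofId A' C) v (fun _ _ => Commute.all _ _), ?_⟩
  refine Algebra.TensorProduct.ext (by ext) ?_
  refine AlgHom.ext fun b => ?_
  have h1 := AlgHom.congr_fun hv b
  change Ideal.Quotient.mk J _ = u _
  change Ideal.Quotient.mk J _ = u _ at h1
  rw [← h1]
  congr 1
  change Algebra.TensorProduct.lift (Algebra.ofId A' C) v (fun _ _ => Commute.all _ _) (1 ⊗ₜ b) = _
  rw [Algebra.TensorProduct.lift_tmul, map_one, one_mul]
  rfl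

theorem descent {𝔞 : Ideal A} {𝔟 : Ideal B} (r : A' →ₗ[A] A) (hr : r 1 = 1)
    (h : EGA41.IsFormallySmoothAdic A' (𝔞.map (algebraMap A A')) (A' ⊗[A] B)
        ((𝔞.map (algebraMap A A')).map (algebraMap A' (A' ⊗[A] B)) ⊔
          𝔟.map (Algebra.TensorProduct.includeRight : B →ₐ[A] A' ⊗[A] B).toRingHom)) :
    EGA41.IsFormallySmoothAdic A 𝔞 B 𝔟 := by
  refine Groth.Agent.Ega41.AdicRed.isFormallySmoothAdic_of_small 𝔞 𝔟 ?_
  intro C D _ _ _ _ q u hs ⟨N, hN⟩ ⟨l, hl⟩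
  have hC : ∀ a ∈ 𝔞 ^ N, algebraMap A C a = 0 := fun a haa => by
    have h1 : algebraMap A C a ∈ (𝔞 ^ N).map (algebraMap A C) := Ideal.mem_map_of_mem _ haa
    rwa [hN, Ideal.mem_bot] at h1
  have hD : ∀ a ∈ 𝔞 ^ N, algebraMap A D a = 0 := fun a haa => by
    rw [← q.commutes, hC a haa, map_zero]
  let q' : A' ⊗[A] C →ₐ[A'] A' ⊗[A] D := Algebra.TensorProduct.map (AlgHom.id A' A') q
  let u' : A' ⊗[A] B →ₐ[A'] A' ⊗[A] D := Algebra.TensorProduct.map (AlgHom.id A' A') u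
  have hq' : Function.Surjective q' := by
    intro x
    induction x with
    | zero => exact ⟨0, map_zero _⟩
    | add x y hx hy =>
      obtain ⟨x, rfl⟩ := hx
      obtain ⟨y, rfl⟩ := hy
      exact ⟨x + y, map_add _ _ _⟩
    | tmul a d =>
      obtain ⟨c, rfl⟩ := hs.surj d
      exact ⟨a ⊗ₜ c, rfl⟩
  -- the kernel has square zero
  have hker : RingHom.ker q' ≤ (RingHom.ker q).map
      (Algebra.TensorProduct.includeRight : C →ₐ[A] A' ⊗[A] C) := by
    have h1 := Algebra.TensorProduct.lTensor_ker (A := A') (g := q) hs.surj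
    rw [← h1]
    intro x hx
    exact hx
  have hsq : ∀ x ∈ RingHom.ker q', ∀ y ∈ RingHom.ker q', x * y = 0 := by
    intro x hx y hy
    have h1 := Ideal.mul_mem_mul (hker hx) (hker hy)
    have h2 : RingHom.ker q * RingHom.ker q = ⊥ := by
      rw [eq_bot_iff, Ideal.mul_le]
      intro a ha b hb
      rw [Ideal.mem_bot]
      exact hs.sq a b ha hb
    rw [← Ideal.map_mul, h2, Ideal.map_bot] at h1
    exact h1
  have hnil : IsNilpotent (RingHom.ker q') := by
    refine ⟨2, ?_⟩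
    rw [Ideal.zero_eq_bot, eq_bot_iff, pow_two, Ideal.mul_le]
    intro x hx y hy
    rw [Ideal.mem_bot, hsq x hx y hy]
  obtain ⟨V, hV⟩ := Groth.Agent.Ega41.AdicRed.exists_lift h q' hq' hnil u' ⟨N, by
    rw [← Ideal.map_pow, eq_bot_iff, Ideal.map_le_iff_le_comap, Ideal.map_le_iff_le_comap]
    intro a haa
    change (algebraMap A A' a) ⊗ₜ[A] (1 : C) = 0
    rw [Algebra.algebraMap_eq_smul_one, TensorProduct.smul_tmul, ← Algebra.algebraMap_eq_smul_one,
      hC a haa, TensorProduct.tmul_zero]⟩ ⟨N + l, by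
    intro x hx
    have h1 := Ideal.sup_pow_add_le_pow_sup_pow hx
    have h2 : ((𝔞.map (algebraMap A A')).map (algebraMap A' (A' ⊗[A] B))) ^ N ⊔
        (𝔟.map (Algebra.TensorProduct.includeRight : B →ₐ[A] A' ⊗[A] B).toRingHom) ^ l ≤
          RingHom.ker (u' : A' ⊗[A] B →+* A' ⊗[A] D) := by
      refine sup_le ?_ ?_
      · rw [← Ideal.map_pow, ← Ideal.map_pow, Ideal.map_le_iff_le_comap, Ideal.map_le_iff_le_comap]
        intro a haa
        change u' ((algebraMap A A' a) ⊗ₜ[A] (1 : B)) = 0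
        change (algebraMap A A' a) ⊗ₜ[A] (u 1) = 0
        rw [map_one, Algebra.algebraMap_eq_smul_one, TensorProduct.smul_tmul,
          ← Algebra.algebraMap_eq_smul_one, hD a haa, TensorProduct.tmul_zero]
      · rw [← Ideal.map_pow, Ideal.map_le_iff_le_comap]
        intro b hb
        change (1 : A') ⊗ₜ[A] (u b) = 0
        rw [hl b hb, TensorProduct.tmul_zero]
    exact h2 h1⟩
  -- the retractions
  let RC : A' ⊗[A] C →ₗ[A] C := TensorProduct.lift ((LinearMap.lsmul A C) ∘ₗ r)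
  let RD : A' ⊗[A] D →ₗ[A] D := TensorProduct.lift ((LinearMap.lsmul A D) ∘ₗ r)
  have hRC : ∀ (a : A') (c : C), RC (a ⊗ₜ c) = r a • c := fun a c => rfl
  have hRD : ∀ (a : A') (d : D), RD (a ⊗ₜ d) = r a • d := fun a c => rfl
  have hRq : ∀ x : A' ⊗[A] C, q (RC x) = RD (q' x) := by
    intro x
    induction x with
    | zero => simp
    | add x y hx hy => rw [map_add, map_add, map_add, map_add, hx, hy]
    | tmul a c =>
      rw [hRC, map_smul]
      rfl
  have hRmul : ∀ (x : A' ⊗[A] C) (c : C), RC ((1 ⊗ₜ c) * x) = c * RC x := by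
    intro x c
    induction x with
    | zero => simp
    | add x y hx hy => rw [mul_add, map_add, map_add, mul_add, hx, hy]
    | tmul a c' =>
      rw [Algebra.TensorProduct.tmul_mul_tmul, one_mul, hRC, hRC, mul_smul_comm]
  let vl : B →ₗ[A] C := RC ∘ₗ (V.restrictScalars A).toLinearMap ∘ₗ
    (Algebra.TensorProduct.includeRight : B →ₐ[A] A' ⊗[A] B).toLinearMap
  have hvl : ∀ b, vl b = RC (V (1 ⊗ₜ b)) := fun b => rfl
  have hVq : ∀ b, q' (V (1 ⊗ₜ b)) = (1 : A') ⊗ₜ[A] (u b) := fun b => AlgHom.congr_fun hV (1 ⊗ₜ b)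
  have hqv : ∀ b, q (vl b) = u b := fun b => by
    rw [hvl, hRq, hVq, hRD, hr, one_smul]
  have hdec : ∀ (b : B) (c : C), q c = u b → V (1 ⊗ₜ b) - 1 ⊗ₜ c ∈ RingHom.ker q' := fun b c hc => by
    rw [RingHom.mem_ker, map_sub, hVq, ← hc]
    exact sub_self _
  have hone : vl 1 = 1 := by
    rw [hvl]
    have h1 : V ((1 : A') ⊗ₜ[A] (1 : B)) = 1 := map_one V
    rw [h1]
    change RC ((1 : A') ⊗ₜ[A] (1 : C)) = 1
    rw [hRC, hr, one_smul]
  have hmul : ∀ b b', vl (b * b') = vl b * vl b' := by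
    intro b b'
    obtain ⟨c, hc⟩ := hs.surj (u b)
    obtain ⟨c', hc'⟩ := hs.surj (u b')
    obtain ⟨x, hx⟩ : ∃ x, x = V (1 ⊗ₜ b) - 1 ⊗ₜ c := ⟨_, rfl⟩
    obtain ⟨x', hx'⟩ : ∃ x', x' = V (1 ⊗ₜ b') - 1 ⊗ₜ c' := ⟨_, rfl⟩
    have hxk : x ∈ RingHom.ker q' := hx ▸ hdec b c hc
    have hxk' : x' ∈ RingHom.ker q' := hx' ▸ hdec b' c' hc'
    have e1 : V (1 ⊗ₜ b) = 1 ⊗ₜ c + x := by rw [hx]; ring
    have e2 : V (1 ⊗ₜ b') = 1 ⊗ₜ c' + x' := by rw [hx']; ring
    have e3 : V ((1 : A') ⊗ₜ[A] (b * b')) = V (1 ⊗ₜ b) * V (1 ⊗ₜ b') := by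
      rw [← map_mul, Algebra.TensorProduct.tmul_mul_tmul, one_mul]
    have hRx : ∀ z ∈ RingHom.ker q', q (RC z) = 0 := fun z hz => by
      rw [hRq, (RingHom.mem_ker).mp hz, map_zero]
    have hR1 : ∀ c : C, RC ((1 : A') ⊗ₜ[A] c) = c := fun c => by rw [hRC, hr, one_smul]
    rw [hvl, hvl, hvl, e3, e1, e2]
    have e4 : ((1 : A') ⊗ₜ[A] c + x) * (1 ⊗ₜ c' + x') =
        (1 ⊗ₜ c) * (1 ⊗ₜ c') + (1 ⊗ₜ c) * x' + (1 ⊗ₜ c') * x + x * x' := by ring
    rw [e4, hsq x hxk x' hxk', add_zero, map_add, map_add, hRmul, hRmul, hRmul, map_add, map_add, hR1, hR1]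
    have e5 : RC x * RC x' = 0 := hs.sq _ _ (hRx x hxk) (hRx x' hxk')
    linear_combination (-1 : C) * e5
  refine ⟨AlgHom.ofLinearMap vl hone hmul, AlgHom.ext fun b => hqv b⟩

end K99.FFDescent
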