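import Groth.Agent.EGA41.K99.AdicQuot
import Groth.Agent.EGA41.K99.AdicTop
import Groth.Agent.Ega41.LiftComplete

/-!
Formally projective algebras: formal smoothness can be tested modulo the ideal of definition of the base.
-/

set_option autoImplicit false
universe u v w

namespace K99.FormProj

open K99.AdicQuot

variable {A B : Type u} [CommRing A] [CommRing B] [Algebra A B]

theorem isNilpotent_of_mul_eq_zero {R : Type u} [CommRing R] (I : Ideal R)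
    (h : ∀ x ∈ I, ∀ y ∈ I, x * y = 0) : IsNilpotent I := by
  refine ⟨2, ?_⟩
  rw [Ideal.zero_eq_bot, eq_bot_iff, pow_two, Ideal.mul_le]
  intro x hx y hy
  rw [Ideal.mem_bot, h x hx y hy]

/-- The key step, with the fibre product `E = C ×_D B` abstracted. -/
theorem core' {𝔞 : Ideal A} {𝔟 : Ideal B} (h₀ : QLift 𝔞 𝔟)
    {C D : Type u} [CommRing C] [CommRing D] [Algebra A C] [Algebra A D] (q : C →ₐ[A] D)
    (hsq : ∀ x y, q x = 0 → q y = 0 → x * y = 0)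
    (ha : ∀ a ∈ 𝔞, ∀ x, q x = 0 → a • x = 0) (u : B →ₐ[A] D) (w : B →ₗ[A] C)
    (hw : ∀ b, q (w b) = u b) (m : ℕ) (hm : ∀ x ∈ 𝔟 ^ m, w x = 0)
    {E : Type u} [CommRing E] [Algebra A E] (pC : E →ₐ[A] C) (pB : E →ₐ[A] B)
    (hE : ∀ e : E, q (pC e) = u (pB e)) (hEext : ∀ e : E, pC e = 0 → pB e = 0 → e = 0)
    (hex : ∀ (c : C) (b : B), q c = u b → ∃ e : E, pC e = c ∧ pB e = b) :
    ∃ v : B →ₐ[A] C, q.comp v = u := by
  have hTu : ∀ x ∈ 𝔟 ^ m, u x = 0 := fun x hx => by rw [← hw, hm x hx, map_zero]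
  have hpB : Function.Surjective pB := fun b => by
    obtain ⟨e, -, he⟩ := hex (w b) b (hw b)
    exact ⟨e, he⟩
  -- the retraction
  let ρ : E →ₗ[A] C := pC.toLinearMap - w ∘ₗ pB.toLinearMap
  have hρ : ∀ e, ρ e = pC e - w (pB e) := fun e => rfl
  have hρq : ∀ e, q (ρ e) = 0 := fun e => by rw [hρ, map_sub, hE, hw, sub_self]
  let JE : Ideal E := RingHom.ker pB
  let K : Ideal E := RingHom.ker pC ⊓ (𝔟 ^ m).comap pB
  let I : Ideal E := 𝔞.map (algebraMap A E) ⊔ K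
  have hρI : ∀ e ∈ I, ρ e = 0 := by
    intro e he
    obtain ⟨e1, h1, e2, h2, rfl⟩ := Submodule.mem_sup.mp he
    rw [map_add]
    have h3 : ρ e1 = 0 := by
      have h4 : e1 ∈ (𝔞 • ⊤ : Submodule A E) := by
        rw [Ideal.smul_top_eq_map]
        exact h1
      have h5 : (𝔞 • ⊤ : Submodule A E) ≤ LinearMap.ker ρ := by
        rw [Submodule.smul_le]
        intro a haa e _
        rw [LinearMap.mem_ker, map_smul]
        exact ha a haa _ (hρq e)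
      exact h5 h4
    have h4 : ρ e2 = 0 := by
      rw [hρ, (show pC e2 = 0 from h2.1), hm _ h2.2, sub_zero]
    rw [h3, h4, add_zero]
  have hJE : ∀ e ∈ JE, pB e = 0 := fun e he => he
  have hJEq : ∀ e ∈ JE, q (pC e) = 0 := fun e he => by rw [hE, hJE e he, map_zero]
  have hJE2 : ∀ e ∈ JE, ∀ e' ∈ JE, e * e' = 0 := fun e he e' he' => by
    refine hEext _ ?_ ?_
    · rw [map_mul]
      exact hsq _ _ (hJEq e he) (hJEq e' he')
    · rw [map_mul, hJE e he, zero_mul]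
  have hinf : ∀ e ∈ I ⊓ JE, e = 0 := by
    rintro e ⟨h1, h2⟩
    have h3 : ρ e = pC e := by rw [hρ, hJE e h2, map_zero, sub_zero]
    exact hEext e (by rw [← h3]; exact hρI e h1) (hJE e h2)
  -- the identification of `B` with `E/JE`
  let eB : (E ⧸ JE) ≃ₐ[A] B := Ideal.quotientKerAlgEquivOfSurjective hpB
  have heB : ∀ e : E, eB (Ideal.Quotient.mk JE e) = pB e := fun e => rfl
  let uJ : B →ₐ[A] E ⧸ JE := (eB.symm : B →ₐ[A] E ⧸ JE)
  have huJ : ∀ e : E, uJ (pB e) = Ideal.Quotient.mk JE e := fun e => by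
    change eB.symm (pB e) = _
    rw [← heB, AlgEquiv.symm_apply_apply]
  let q' : (E ⧸ I) →ₐ[A] (E ⧸ (I ⊔ JE)) := Ideal.Quotient.factorₐ A le_sup_left
  have hq' : Function.Surjective q' := fun x => by
    obtain ⟨e, rfl⟩ := Ideal.Quotient.mk_surjective x
    exact ⟨Ideal.Quotient.mk I e, rfl⟩
  have hnil : IsNilpotent (RingHom.ker q') := by
    refine isNilpotent_of_mul_eq_zero _ ?_
    intro x hx y hy
    obtain ⟨e, rfl⟩ := Ideal.Quotient.mk_surjective x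
    obtain ⟨e', rfl⟩ := Ideal.Quotient.mk_surjective y
    have h1 : e ∈ I ⊔ JE := Ideal.Quotient.eq_zero_iff_mem.mp hx
    have h2 : e' ∈ I ⊔ JE := Ideal.Quotient.eq_zero_iff_mem.mp hy
    obtain ⟨i, hi, j, hj, rfl⟩ := Submodule.mem_sup.mp h1
    obtain ⟨i', hi', j', hj', rfl⟩ := Submodule.mem_sup.mp h2
    rw [← map_mul, Ideal.Quotient.eq_zero_iff_mem]
    have h3 : (i + j) * (i' + j') = (i + j) * i' + i * j' + j * j' := by ring
    rw [h3, hJE2 j hj j' hj', add_zero]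
    exact I.add_mem (I.mul_mem_left _ hi') (I.mul_mem_right _ hi)
  obtain ⟨v', hv'⟩ := h₀ (E ⧸ I) (E ⧸ (I ⊔ JE)) q' hq' hnil
    (fun a haa => by
      change Ideal.Quotient.mk I (algebraMap A E a) = 0
      rw [Ideal.Quotient.eq_zero_iff_mem]
      exact Ideal.mem_sup_left (Ideal.mem_map_of_mem _ haa))
    ((Ideal.Quotient.factorₐ A (le_sup_right : JE ≤ I ⊔ JE)).comp uJ)
    ⟨m, fun x hx => by
      obtain ⟨e, he1, he2⟩ := hex 0 x (by rw [map_zero, hTu x hx])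
      rw [AlgHom.comp_apply, ← he2, huJ]
      change Ideal.Quotient.mk (I ⊔ JE) e = 0
      rw [Ideal.Quotient.eq_zero_iff_mem]
      refine Ideal.mem_sup_left (Ideal.mem_sup_right ⟨he1, ?_⟩)
      change pB e ∈ 𝔟 ^ m
      rw [he2]
      exact hx⟩
  obtain ⟨W, -, hW⟩ := Groth.Agent.Ega41.LiftComplete.exists_algHom_quotient_inf I JE v' uJ hv'
  let r : (E ⧸ (I ⊓ JE)) →ₐ[A] C := Ideal.Quotient.liftₐ (I ⊓ JE) pC (fun e he => by
    rw [hinf e he, map_zero])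
  refine ⟨r.comp W, AlgHom.ext fun b => ?_⟩
  obtain ⟨e, he⟩ := Ideal.Quotient.mk_surjective (W b)
  have h1 : Ideal.Quotient.mk JE e = uJ b := by
    have := AlgHom.congr_fun hW b
    rw [AlgHom.comp_apply, ← he] at this
    exact this
  have h2 : pB e = b := by
    rw [← heB, h1]
    exact AlgEquiv.apply_symm_apply eB b
  rw [AlgHom.comp_apply, AlgHom.comp_apply, ← he]
  change q (pC e) = u b
  rw [hE, h2]

/-- The key step: a square-zero problem, killed by `𝔞`, with a continuous `A`-linear solution `w`. -/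
theorem core {𝔞 : Ideal A} {𝔟 : Ideal B} (h₀ : QLift 𝔞 𝔟)
    {C D : Type u} [CommRing C] [CommRing D] [Algebra A C] [Algebra A D] (q : C →ₐ[A] D)
    (hsq : ∀ x y, q x = 0 → q y = 0 → x * y = 0)
    (ha : ∀ a ∈ 𝔞, ∀ x, q x = 0 → a • x = 0) (u : B →ₐ[A] D) (w : B →ₗ[A] C)
    (hw : ∀ b, q (w b) = u b) (m : ℕ) (hm : ∀ x ∈ 𝔟 ^ m, w x = 0) :
    ∃ v : B →ₐ[A] C, q.comp v = u := by
  let E : Subalgebra A (C × B) :=
    AlgHom.equalizer (q.comp (AlgHom.fst A C B)) (u.comp (AlgHom.snd A C B))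
  exact core' h₀ q hsq ha u w hw m hm (E := E) ((AlgHom.fst A C B).comp E.val)
    ((AlgHom.snd A C B).comp E.val) (fun e => e.2) (fun e h1 h2 => Subtype.ext (Prod.ext h1 h2))
    (fun c b h => ⟨⟨(c, b), h⟩, rfl, rfl⟩)

theorem isFormallySmoothAdic_of_qLift {𝔞 : Ideal A} {𝔟 : Ideal B}
    (hAB : ∃ k : ℕ, (𝔞 ^ k).map (algebraMap A B) ≤ 𝔟)
    (hproj : ∀ (n : ℕ) (P Q : Type u) [AddCommGroup P] [Module A P] [AddCommGroup Q] [Module A Q],
      (∀ a ∈ 𝔞 ^ n, ∀ y : P, a • y = 0) → (∀ a ∈ 𝔞 ^ n, ∀ y : Q, a • y = 0) →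
      ∀ f : P →ₗ[A] Q, Function.Surjective f → ∀ v : B →ₗ[A] Q, (∃ m : ℕ, ∀ x ∈ 𝔟 ^ m, v x = 0) →
        ∃ w : B →ₗ[A] P, (∃ m : ℕ, ∀ x ∈ 𝔟 ^ m, w x = 0) ∧ f ∘ₗ w = v)
    (h₀ : QLift 𝔞 𝔟) : EGA41.IsFormallySmoothAdic A 𝔞 B 𝔟 := by
  obtain ⟨k, hk⟩ := hAB
  let 𝔟' : Ideal B := 𝔟 ⊔ 𝔞.map (algebraMap A B)
  have h𝔟' : 𝔟' ^ (1 + k) ≤ 𝔟 := by
    refine Ideal.sup_pow_add_le_pow_sup_pow.trans (sup_le ?_ ?_)
    · rw [pow_one]
    · rw [← Ideal.map_pow]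
      exact hk
  refine K99.AdicTop.isFormallySmoothAdic_congr (𝔞 := 𝔞) (𝔟 := 𝔟') ?_ ⟨1, by rw [pow_one]⟩ ⟨1 + k, h𝔟'⟩
  refine Groth.Agent.Ega41.AdicRed.isFormallySmoothAdic_of_small 𝔞 𝔟' ?_
  intro C D _ _ _ _ q u hs ⟨N, hN⟩ ⟨l, hl⟩
  have hC : ∀ a ∈ 𝔞 ^ N, ∀ y : C, a • y = 0 := fun a haa y => by
    have h1 : algebraMap A C a ∈ (𝔞 ^ N).map (algebraMap A C) := Ideal.mem_map_of_mem _ haa
    rw [hN, Ideal.mem_bot] at h1
    rw [Algebra.smul_def, h1, zero_mul]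
  have hD : ∀ a ∈ 𝔞 ^ N, ∀ y : D, a • y = 0 := fun a haa y => by
    obtain ⟨y, rfl⟩ := hs.surj y
    rw [← map_smul, hC a haa, map_zero]
  obtain ⟨w, ⟨m, hm⟩, hw⟩ := hproj N C D hC hD q.toLinearMap hs.surj u.toLinearMap
    ⟨l, fun x hx => hl x (Ideal.pow_right_mono le_sup_left l hx)⟩
  refine core h₀ q hs.sq ?_ u w (fun b => LinearMap.congr_fun hw b) m hm
  intro a haa x hx
  rw [Algebra.smul_def]
  exact hs.kill (algebraMap A B a) (Ideal.mem_sup_right (Ideal.mem_map_of_mem _ haa)) (algebraMap A C a)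
    (by rw [q.commutes, u.commutes]) x hx

end K99.FormProj
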