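import Mathlib.Algebra.Field.Subfield.Basic
import Mathlib.RingTheory.Localization.FractionRing
import Mathlib.RingTheory.MvPowerSeries.Expand
import Mathlib.LinearAlgebra.Basis.VectorSpace

/-!
Intersections of fraction fields of subrings admitting retractions, and power series with coefficients in subfields.
-/

set_option autoImplicit false
universe u v w

namespace K99.FracInter

section General

variable {A : Type u} [CommRing A] [IsDomain A] {K : Type v} [Field K] [Algebra A K] [IsFractionRing A K]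

theorem exists_mul_eq (S : Subring A) (z : K) (hz : z ∈ Subfield.closure (algebraMap A K '' (S : Set A))) :
    ∃ a ∈ S, ∃ b ∈ S, b ≠ 0 ∧ z * algebraMap A K b = algebraMap A K a := by
  rw [Subfield.mem_closure_iff] at hz
  have hcl : Subring.closure (algebraMap A K '' (S : Set A)) = S.map (algebraMap A K) := by
    rw [← RingHom.map_closure, Subring.closure_eq]
  rw [hcl] at hz
  obtain ⟨_, ⟨a, ha, rfl⟩, _, ⟨b, hb, rfl⟩, rfl⟩ := hz
  by_cases h0 : b = 0
  · exact ⟨0, S.zero_mem, 1, S.one_mem, one_ne_zero, by simp [h0]⟩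
  · refine ⟨a, ha, b, hb, h0, ?_⟩
    have h1 : algebraMap A K b ≠ 0 := fun h => h0 ((IsFractionRing.injective A K) (by rw [h, map_zero]))
    exact div_mul_cancel₀ _ h1

omit [IsDomain A] [IsFractionRing A K] in
theorem mem_closure (S : Subring A) (a : A) (ha : a ∈ S) :
    algebraMap A K a ∈ Subfield.closure (algebraMap A K '' (S : Set A)) :=
  Subfield.subset_closure ⟨a, ha, rfl⟩

/-- `A ∩ Frac S = S` in the presence of a retraction. -/
theorem mem_of_retraction (S : Subring A) (ρ : A → A) (hρS : ∀ a, ρ a ∈ S) (hρ : ∀ a ∈ S, ρ a = a)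
    (hmul : ∀ s ∈ S, ∀ a, ρ (s * a) = s * ρ a) (g : A)
    (hg : algebraMap A K g ∈ Subfield.closure (algebraMap A K '' (S : Set A))) : g ∈ S := by
  obtain ⟨a, ha, b, hb, hb0, h⟩ := exists_mul_eq S _ hg
  rw [← map_mul] at h
  have h1 : g * b = a := IsFractionRing.injective A K h
  have h2 : b * ρ g = b * g := by
    rw [← hmul b hb, mul_comm b g, h1]
    exact hρ a ha
  have h3 : ρ g = g := mul_left_cancel₀ hb0 h2
  rw [← h3]
  exact hρS g

theorem iInf_closure_eq {ι : Type*} [Nonempty ι] (S : ι → Subring A) (S₀ : Subring A)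
    (ρ : ι → A → A) (hρS : ∀ i a, ρ i a ∈ S i) (hρ : ∀ i, ∀ a ∈ S i, ρ i a = a)
    (hmul : ∀ i, ∀ s ∈ S i, ∀ a, ρ i (s * a) = s * ρ i a)
    (hle : ∀ i, S₀ ≤ S i) (hinf : ∀ a, (∀ i, a ∈ S i) → a ∈ S₀) (q : ℕ) (hq : 0 < q)
    (hpow : ∀ a, a ^ q ∈ S₀) :
    (⨅ i, Subfield.closure (algebraMap A K '' (S i : Set A))) =
      Subfield.closure (algebraMap A K '' (S₀ : Set A)) := by
  apply le_antisymm
  · intro z hz
    rw [Subfield.mem_iInf] at hz
    obtain ⟨g, f, hf, rfl⟩ := IsFractionRing.div_surjective (A := A) z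
    have hf0 : f ≠ 0 := nonZeroDivisors.ne_zero hf
    have hfK : algebraMap A K f ≠ 0 := fun h => hf0 ((IsFractionRing.injective A K) (by rw [h, map_zero]))
    obtain ⟨n, rfl⟩ : ∃ n, q = n + 1 := ⟨q - 1, by omega⟩
    have h1 : algebraMap A K g / algebraMap A K f =
        algebraMap A K (g * f ^ n) / algebraMap A K (f ^ (n + 1)) := by
      rw [map_mul, map_pow, map_pow]
      field_simp
      ring
    have h2 : algebraMap A K (g * f ^ n) =
        (algebraMap A K g / algebraMap A K f) * algebraMap A K (f ^ (n + 1)) := by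
      rw [map_mul, map_pow, map_pow]
      field_simp
      ring
    have h3 : g * f ^ n ∈ S₀ := by
      apply hinf
      intro i
      apply mem_of_retraction (K := K) (S i) (ρ i) (hρS i) (hρ i) (hmul i)
      rw [h2]
      exact mul_mem (hz i) (mem_closure _ _ (hle i (hpow f)))
    rw [h1]
    exact div_mem (mem_closure _ _ h3) (mem_closure _ _ (hpow f))
  · exact le_iInf fun i => Subfield.closure_mono (Set.image_mono (hle i))

end General

section PS

variable {σ : Type*} {k : Type*} [Field k]

/-- Power series with coefficients in a subfield. -/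
def coeffSubring (σ : Type*) {k : Type*} [Field k] (F : Subfield k) : Subring (MvPowerSeries σ k) where
  carrier := {f | ∀ n, MvPowerSeries.coeff n f ∈ F}
  mul_mem' := by
    classical
    intro f g hf hg n
    rw [MvPowerSeries.coeff_mul]
    exact sum_mem fun x _ => mul_mem (hf _) (hg _)
  one_mem' := by
    classical
    intro n
    rw [MvPowerSeries.coeff_one]
    split_ifs
    · exact one_mem F
    · exact zero_mem F
  add_mem' := by
    intro f g hf hg n
    rw [map_add]
    exact add_mem (hf _) (hg _)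
  zero_mem' := by
    intro n
    rw [map_zero]
    exact zero_mem F
  neg_mem' := by
    intro f hf n
    rw [map_neg]
    exact neg_mem (hf _)

theorem mem_coeffSubring (F : Subfield k) (f : MvPowerSeries σ k) :
    f ∈ coeffSubring σ F ↔ ∀ n, MvPowerSeries.coeff n f ∈ F := Iff.rfl

theorem exists_retraction (F : Subfield k) : ∃ r : k →ₗ[F] F, ∀ x : F, r x = x := by
  obtain ⟨r, hr⟩ := (Algebra.linearMap F k).exists_leftInverse_of_injective
    (LinearMap.ker_eq_bot.2 (algebraMap F k).injective)
  exact ⟨r, fun x => DFunLike.congr_fun hr x⟩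

theorem pow_mem_coeffSubring (p : ℕ) [ExpChar k p] (e : ℕ) (F : Subfield k) (h : ∀ x : k, x ^ p ^ e ∈ F)
    (f : MvPowerSeries σ k) : f ^ p ^ e ∈ coeffSubring σ F := by
  intro n
  rw [← MvPowerSeries.map_iterateFrobenius_expand p (expChar_ne_zero k p), MvPowerSeries.coeff_map,
    iterateFrobenius_def]
  exact h _

/-- apply a linear map to the coefficients -/
def mapCoeff {F : Subfield k} (r : k →ₗ[F] F) (f : MvPowerSeries σ k) : MvPowerSeries σ k :=
  fun n => (r (MvPowerSeries.coeff n f) : k)

theorem coeff_mapCoeff {F : Subfield k} (r : k →ₗ[F] F) (f : MvPowerSeries σ k) (n : σ →₀ ℕ) :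
    MvPowerSeries.coeff n (mapCoeff r f) = (r (MvPowerSeries.coeff n f) : k) := rfl

theorem mapCoeff_mem {F : Subfield k} (r : k →ₗ[F] F) (f : MvPowerSeries σ k) :
    mapCoeff r f ∈ coeffSubring σ F := fun n => (r (MvPowerSeries.coeff n f)).2

theorem mapCoeff_eq {F : Subfield k} (r : k →ₗ[F] F) (hr : ∀ x : F, r x = x) (f : MvPowerSeries σ k)
    (hf : f ∈ coeffSubring σ F) : mapCoeff r f = f := by
  ext n
  rw [coeff_mapCoeff]
  exact congrArg Subtype.val (hr ⟨_, hf n⟩)

theorem mapCoeff_mul {F : Subfield k} (r : k →ₗ[F] F) (f : MvPowerSeries σ k)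
    (hf : f ∈ coeffSubring σ F) (g : MvPowerSeries σ k) : mapCoeff r (f * g) = f * mapCoeff r g := by
  classical
  ext n
  rw [coeff_mapCoeff, MvPowerSeries.coeff_mul, MvPowerSeries.coeff_mul, map_sum,
    AddSubmonoidClass.coe_finsetSum]
  refine Finset.sum_congr rfl fun x _ => ?_
  have h : MvPowerSeries.coeff x.1 f * MvPowerSeries.coeff x.2 g =
      (⟨_, hf x.1⟩ : F) • MvPowerSeries.coeff x.2 g := rfl
  rw [h, map_smul, coeff_mapCoeff]
  rfl

end PS

end K99.FracInter
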