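import Groth.Agent.EGA41.K99.ImpTower
import Groth.Agent.S2475
import Groth.Agent.S2469

/-!
Admissible subfields and imperfection modules.
-/

set_option autoImplicit false
universe u v w

open TensorProduct

namespace K99.ImpAdm

open K99.ImpLin K99.ImpTower

section General

variable {k₀ K : Type u} [Field k₀] [Field K] [Algebra k₀ K]

/-- The kernels of `Ω_{K/k₀} → Ω_{K/k_i}` decrease. -/
theorem ker_antitone {ι : Type*} [Preorder ι] (k : ι → IntermediateField k₀ K) (hk : Antitone k) :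
    Antitone fun i => LinearMap.ker ((KaehlerDifferential.map k₀ (k i) K K).restrictScalars K) := by
  intro i j hij ω hω
  have hω' : KaehlerDifferential.map k₀ (k j) K K ω = 0 := hω
  change KaehlerDifferential.map k₀ (k i) K K ω = 0
  rw [map_eq_zero_iff] at hω' ⊢
  refine Submodule.span_mono ?_ hω'
  rintro _ ⟨s, rfl⟩
  exact ⟨⟨s.1, hk hij s.2⟩, rfl⟩

theorem exists_admissible {ι : Type*} [Preorder ι] [IsDirected ι (· ≤ ·)] [Nonempty ι]
    (k : ι → IntermediateField k₀ K) (hk : Antitone k)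
    (hsep : ∀ ω : Ω[K⁄k₀], (∀ i, KaehlerDifferential.map k₀ (k i) K K ω = 0) → ω = 0)
    (L : Type*) [Field L] [Algebra K L] (U : Submodule L (L ⊗[K] Ω[K⁄k₀])) [Module.Finite L U] :
    ∃ i, ∀ ω ∈ U, ((KaehlerDifferential.map k₀ (k i) K K).restrictScalars K).baseChange L ω = 0 → ω = 0 :=
  exists_forall_baseChange (fun i => (KaehlerDifferential.map k₀ (k i) K K).restrictScalars K)
    (ker_antitone k hk) hsep U

/-- `Υ_{L/K/k₀}` is finite-dimensional for `L/K` finitely generated. -/
theorem finite_imperfection (L : Type u) [Field L] [Algebra K L] [Algebra k₀ L] [IsScalarTower k₀ K L]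
    [Algebra.EssFiniteType K L] : Module.Finite L (EGA41.imperfection k₀ K L) := by
  haveI h1 : Module.Finite L (EGA41.imperfection ℤ K L) := (Groth.Agent.S2469.result (K := K) (L := L)).2.1
  let f : L ⊗[K] Ω[K⁄ℤ] →ₗ[L] L ⊗[K] Ω[K⁄k₀] := (KaehlerDifferential.map ℤ k₀ K K).baseChange L
  let g : EGA41.imperfection ℤ K L →ₗ[L] EGA41.imperfection k₀ K L :=
    LinearMap.codRestrict _ (f ∘ₗ (EGA41.imperfection ℤ K L).subtype) (fun x => by
      change KaehlerDifferential.mapBaseChange k₀ K L (f x) = 0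
      have h2 : KaehlerDifferential.mapBaseChange ℤ K L x = 0 := x.2
      have h3 := map_mapBaseChange ℤ k₀ K L (x : L ⊗[K] Ω[K⁄ℤ])
      rw [h2, map_zero] at h3
      exact h3.symm)
  refine Module.Finite.of_surjective g ?_
  rintro ⟨ω, hω⟩
  obtain ⟨η, hη, hηω⟩ := imperfection_surjective ℤ k₀ K L ω hω
  exact ⟨⟨η, hη⟩, Subtype.ext hηω⟩

end General

end K99.ImpAdm
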