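import Groth.Agent.EGA41.K99.ImpAdm
import Groth.Agent.Ega41.PBasisField

/-!
Cutting a `p`-basis: subfields `k ⊇ k₀(K^p)` of finite index with small kernel of `Ω_{K/k₀} → Ω_{K/k}`.
-/

set_option autoImplicit false
universe u v w

open TensorProduct

namespace K99.ImpCut

open K99.ImpLin

section Basis

variable {k₀ K : Type u} [Field k₀] [Field K] [Algebra k₀ K]

/-- `Ω_{K/k₀}` has a basis made of differentials. -/
theorem exists_basis_D (k₀ K : Type u) [Field k₀] [Field K] [Algebra k₀ K] :
    ∃ (ι : Type u) (x : ι → K) (b : Module.Basis ι K (Ω[K⁄k₀])),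
      ∀ i, b i = KaehlerDifferential.D k₀ K (x i) := by
  obtain ⟨B, -, -, hspan, hind⟩ := exists_linearIndepOn_extension
    (v := KaehlerDifferential.D k₀ K) (K := K) (s := ∅) (t := Set.univ)
    (linearIndepOn_empty K _) (Set.empty_subset _)
  have hs : ⊤ ≤ Submodule.span K (Set.range fun i : B => KaehlerDifferential.D k₀ K (i : K)) := by
    rw [← KaehlerDifferential.span_range_derivation, Submodule.span_le]
    rintro _ ⟨y, rfl⟩
    have := hspan ⟨y, trivial, rfl⟩
    rw [Set.image_eq_range] at this
    exact this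
  exact ⟨B, Subtype.val, Module.Basis.mk hind hs, fun i => by simp⟩

/-- a finitely generated submodule lies in the span of finitely many basis elements -/
theorem exists_finite_le_span {ι R M : Type*} [CommRing R] [AddCommGroup M] [Module R M]
    (b : Module.Basis ι R M) (W : Submodule R M) (hW : W.FG) :
    ∃ S : Set ι, S.Finite ∧ W ≤ Submodule.span R (b '' S) := by
  classical
  obtain ⟨w, rfl⟩ := hW
  refine ⟨↑(w.biUnion fun e => (b.repr e).support), Finset.finite_toSet _, ?_⟩
  rw [Submodule.span_le]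
  intro e he
  rw [SetLike.mem_coe, Module.Basis.mem_span_image]
  intro j hj
  simp only [Finset.coe_biUnion, Set.mem_iUnion]
  exact ⟨e, he, hj⟩

variable (p : ℕ) [hp : Fact p.Prime] [CharP K p]

/-- The subfield generated over `k₀` by the `p`-th powers and the `x i`, `i ∉ S`. -/
noncomputable def cut (k₀ : Type u) {K : Type u} [Field k₀] [Field K] [Algebra k₀ K] {ι : Type*}
    (x : ι → K) (S : Set ι) : IntermediateField k₀ K :=
  IntermediateField.adjoin k₀ ((Set.range fun y : K => y ^ p) ∪ x '' Sᶜ)

theorem pow_mem_cut {ι : Type*} (x : ι → K) (S : Set ι) (y : K) : y ^ p ∈ cut p k₀ x S :=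
  IntermediateField.subset_adjoin _ _ (Or.inl ⟨y, rfl⟩)

theorem mem_cut {ι : Type*} (x : ι → K) (S : Set ι) (i : ι) (hi : i ∉ S) : x i ∈ cut p k₀ x S :=
  IntermediateField.subset_adjoin _ _ (Or.inr ⟨i, hi, rfl⟩)

theorem D_mem_of_mem_cut {ι : Type*} (x : ι → K) (S : Set ι) (z : K) (hz : z ∈ cut p k₀ x S) :
    KaehlerDifferential.D k₀ K z ∈
      Submodule.span K ((fun i => KaehlerDifferential.D k₀ K (x i)) '' Sᶜ) := by
  unfold cut at hz
  induction hz using IntermediateField.adjoin_induction with
  | mem z hz =>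
    rcases hz with ⟨y, rfl⟩ | ⟨i, hi, rfl⟩
    · change KaehlerDifferential.D k₀ K (y ^ p) ∈ _
      rw [Derivation.leibniz_pow, ← Nat.cast_smul_eq_nsmul K, CharP.cast_eq_zero, zero_smul]
      exact Submodule.zero_mem _
    · exact Submodule.subset_span ⟨i, hi, rfl⟩
  | algebraMap z => rw [Derivation.map_algebraMap]; exact Submodule.zero_mem _
  | add y z _ _ hy hz => rw [map_add]; exact Submodule.add_mem _ hy hz
  | inv z _ hz =>
    rw [Derivation.leibniz_inv]
    exact Submodule.smul_mem _ _ hz
  | mul y z _ _ hy hz =>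
    rw [Derivation.leibniz]
    exact Submodule.add_mem _ (Submodule.smul_mem _ _ hz) (Submodule.smul_mem _ _ hy)

theorem ker_map_cut_le {ι : Type*} (x : ι → K) (S : Set ι) (ω : Ω[K⁄k₀])
    (hω : KaehlerDifferential.map k₀ (cut p k₀ x S) K K ω = 0) :
    ω ∈ Submodule.span K ((fun i => KaehlerDifferential.D k₀ K (x i)) '' Sᶜ) := by
  rw [map_eq_zero_iff] at hω
  have hle : Submodule.span K (Set.range fun s : cut p k₀ x S =>
      KaehlerDifferential.D k₀ K (algebraMap (cut p k₀ x S) K s)) ≤
      Submodule.span K ((fun i => KaehlerDifferential.D k₀ K (x i)) '' Sᶜ) := by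
    rw [Submodule.span_le]
    rintro _ ⟨s, rfl⟩
    exact D_mem_of_mem_cut p x S s s.2
  exact hle hω

theorem finite_cut {ι : Type u} (x : ι → K) (S : Set ι) (hS : S.Finite)
    (hx : Submodule.span K (Set.range fun i => KaehlerDifferential.D k₀ K (x i)) = ⊤) :
    Module.Finite (cut p k₀ x S) K := by
  haveI : Finite (x '' S) := hS.image x
  have hint : ∀ y ∈ x '' S, IsIntegral (cut p k₀ x S) y := by
    intro y _
    refine IsIntegral.of_pow hp.out.pos ?_
    have : y ^ p = algebraMap (cut p k₀ x S) K ⟨y ^ p, pow_mem_cut p x S y⟩ := rfl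
    rw [this]
    exact isIntegral_algebraMap
  haveI hfin := IntermediateField.finiteDimensional_adjoin hint
  have htop : IntermediateField.adjoin (cut p k₀ x S) (x '' S) = ⊤ := by
    rw [eq_top_iff]
    intro z _
    let F := (IntermediateField.adjoin (cut p k₀ x S) (x '' S)).restrictScalars k₀
    change z ∈ F.toSubalgebra
    refine Groth.Agent.Ega41.PBasisField.mem_of_D_mem_span p F.toSubalgebra ?_ (Set.range x) ?_ z ?_
    · intro y
      exact (IntermediateField.adjoin (cut p k₀ x S) (x '' S)).algebraMap_mem ⟨y ^ p, pow_mem_cut p x S y⟩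
    · rintro _ ⟨i, rfl⟩
      by_cases hi : i ∈ S
      · exact IntermediateField.subset_adjoin _ _ ⟨i, hi, rfl⟩
      · exact (IntermediateField.adjoin (cut p k₀ x S) (x '' S)).algebraMap_mem ⟨x i, mem_cut p x S i hi⟩
    · rw [← Set.range_comp]
      change _ ∈ Submodule.span K (Set.range fun i => KaehlerDifferential.D k₀ K (x i))
      rw [hx]
      trivial
  rw [htop] at hfin
  exact Module.Finite.equiv (IntermediateField.topEquiv (F := cut p k₀ x S) (E := K)).toLinearEquiv

end Basis

end K99.ImpCut
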