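import Mathlib.LinearAlgebra.TensorProduct.Finiteness
import Mathlib.LinearAlgebra.FiniteDimensional.Basic
import Mathlib.RingTheory.Flat.Basic
import Mathlib.RingTheory.Kaehler.Basic
import Mathlib.RingTheory.TensorProduct.Free

/-!
Linear algebra over fields: separating families of quotients of a vector space, after extension of the base field
and on finite-dimensional subspaces.
-/

set_option autoImplicit false
universe u v w

open TensorProduct

namespace K99.ImpLin

section Dir

variable {K : Type*} {V : Type*} [Field K] [AddCommGroup V] [Module K V]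

/-- A directed family of subspaces with intersection zero meets a finite-dimensional subspace in zero eventually. -/
theorem exists_inf_eq_bot {ι : Type*} [Preorder ι] [IsDirected ι (· ≤ ·)] [Nonempty ι]
    (N : ι → Submodule K V) (hN : Antitone N) (hinf : ∀ v, (∀ i, v ∈ N i) → v = 0)
    (W : Submodule K V) [Module.Finite K W] : ∃ i, W ⊓ N i = ⊥ := by
  let f : ι → ℕ := fun i => Module.finrank K ↥(W ⊓ N i)
  obtain ⟨i, hi⟩ := Nat.sInf_mem (Set.range_nonempty f)
  have hmin : ∀ j, f i ≤ f j := fun j => hi ▸ Nat.sInf_le ⟨j, rfl⟩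
  refine ⟨i, ?_⟩
  rw [eq_bot_iff]
  intro v hv
  rw [Submodule.mem_bot]
  refine hinf v fun j => ?_
  obtain ⟨l, hil, hjl⟩ := exists_ge_ge i j
  have hle : W ⊓ N l ≤ W ⊓ N i := inf_le_inf_left W (hN hil)
  haveI : Module.Finite K ↥(W ⊓ N i) := Submodule.finiteDimensional_inf_left W (N i)
  have heq : W ⊓ N l = W ⊓ N i := Submodule.eq_of_le_of_finrank_le hle (hmin l)
  rw [← heq] at hv
  exact hN hjl hv.2

variable {L : Type*} [Field L] [Algebra K L]

theorem baseChange_injective {V' : Type*} [AddCommGroup V'] [Module K V'] (f : V →ₗ[K] V')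
    (hf : Function.Injective f) : Function.Injective (f.baseChange L) :=
  Module.Flat.lTensor_preserves_injective_linearMap f hf

theorem ker_baseChange_le {V₁ V₂ : Type*} [AddCommGroup V₁] [Module K V₁] [AddCommGroup V₂] [Module K V₂]
    (f : V →ₗ[K] V₁) (g : V →ₗ[K] V₂) (h : LinearMap.ker f ≤ LinearMap.ker g) (x : L ⊗[K] V)
    (hx : f.baseChange L x = 0) : g.baseChange L x = 0 := by
  obtain ⟨s, hs⟩ := (LinearMap.range f).subtype.exists_leftInverse_of_injective (Submodule.ker_subtype _)
  -- `g = ψ ∘ f`
  let q : V →ₗ[K] V ⧸ LinearMap.ker f := Submodule.mkQ _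
  let f' : (V ⧸ LinearMap.ker f) →ₗ[K] V₁ := Submodule.liftQ _ f le_rfl
  let g' : (V ⧸ LinearMap.ker f) →ₗ[K] V₂ := Submodule.liftQ _ g h
  have hf' : f = f' ∘ₗ q := by ext v; rfl
  have hg' : g = g' ∘ₗ q := by ext v; rfl
  have hf'inj : Function.Injective f' := by
    rw [← LinearMap.ker_eq_bot]
    exact Submodule.ker_liftQ_eq_bot _ _ _ le_rfl
  have h1 : f'.baseChange L (q.baseChange L x) = 0 := by
    rw [← LinearMap.comp_apply, ← LinearMap.baseChange_comp, ← hf']
    exact hx
  have h2 : q.baseChange L x = 0 := by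
    apply baseChange_injective f' hf'inj
    rw [h1, map_zero]
  rw [hg', LinearMap.baseChange_comp, LinearMap.comp_apply, h2, map_zero]

/-- A finite-dimensional subspace `U` of `L ⊗ V` comes from a finite-dimensional subspace of `V`. -/
theorem exists_finite_submodule (U : Submodule L (L ⊗[K] V)) [Module.Finite L U] :
    ∃ W : Submodule K V, Module.Finite K W ∧ U ≤ LinearMap.range (W.subtype.baseChange L) := by
  obtain ⟨s, hs⟩ := (Module.Finite.iff_fg.mp (inferInstance : Module.Finite L U))
  obtain ⟨W, hW, hsW⟩ := TensorProduct.exists_finite_submodule_right_of_setFinite (R := K)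
    (s : Set (L ⊗[K] V)) s.finite_toSet
  refine ⟨W, hW, ?_⟩
  rw [← hs, Submodule.span_le]
  intro x hx
  obtain ⟨y, hy⟩ := hsW hx
  exact ⟨y, hy⟩

/-- on a finite-dimensional subspace some member of a separating directed family is injective -/
theorem exists_forall_baseChange {ι : Type*} [Preorder ι] [IsDirected ι (· ≤ ·)] [Nonempty ι]
    {V' : ι → Type*} [∀ i, AddCommGroup (V' i)] [∀ i, Module K (V' i)] (f : ∀ i, V →ₗ[K] V' i)
    (hN : Antitone fun i => LinearMap.ker (f i)) (hinf : ∀ v, (∀ i, f i v = 0) → v = 0)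
    (U : Submodule L (L ⊗[K] V)) [Module.Finite L U] :
    ∃ i, ∀ ω ∈ U, (f i).baseChange L ω = 0 → ω = 0 := by
  obtain ⟨W, hW, hUW⟩ := exists_finite_submodule U
  obtain ⟨i, hi⟩ := exists_inf_eq_bot (fun i => LinearMap.ker (f i)) hN hinf W
  refine ⟨i, fun ω hω h0 => ?_⟩
  obtain ⟨x, rfl⟩ := hUW hω
  have hinj : Function.Injective (f i ∘ₗ W.subtype) := by
    rw [← LinearMap.ker_eq_bot, eq_bot_iff]
    intro v hv
    have h1 : (v : V) ∈ W ⊓ LinearMap.ker (f i) := ⟨v.2, hv⟩
    rw [hi, Submodule.mem_bot] at h1
    rw [Submodule.mem_bot]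
    exact Subtype.ext h1
  have h2 : (f i ∘ₗ W.subtype).baseChange L x = 0 := by
    rw [LinearMap.baseChange_comp, LinearMap.comp_apply]
    exact h0
  have h3 : x = 0 := by
    apply baseChange_injective _ hinj
    rw [h2, map_zero]
  rw [h3, map_zero]

/-- a separating directed family stays separating after base change -/
theorem eq_zero_of_forall_baseChange {ι : Type*} [Preorder ι] [IsDirected ι (· ≤ ·)] [Nonempty ι]
    {V' : ι → Type*} [∀ i, AddCommGroup (V' i)] [∀ i, Module K (V' i)] (f : ∀ i, V →ₗ[K] V' i)
    (hN : Antitone fun i => LinearMap.ker (f i)) (hinf : ∀ v, (∀ i, f i v = 0) → v = 0)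
    (ω : L ⊗[K] V) (hω : ∀ i, (f i).baseChange L ω = 0) : ω = 0 := by
  obtain ⟨i, hi⟩ := exists_forall_baseChange f hN hinf (Submodule.span L {ω})
  exact hi ω (Submodule.mem_span_singleton_self ω) (hω i)

end Dir

section Kaehler

theorem kaehler_induction {R : Type*} {S : Type*} [CommRing R] [CommRing S] [Algebra R S]
    {P : Ω[S⁄R] → Prop} (hD : ∀ s : S, P (KaehlerDifferential.D R S s)) (h0 : P 0)
    (hadd : ∀ x y, P x → P y → P (x + y)) (hsmul : ∀ (s : S) x, P x → P (s • x))
    (x : Ω[S⁄R]) : P x := by
  have hx : x ∈ Submodule.span S (Set.range (KaehlerDifferential.D R S)) := by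
    rw [KaehlerDifferential.span_range_derivation]; trivial
  induction hx using Submodule.span_induction with
  | mem x h => obtain ⟨s, rfl⟩ := h; exact hD s
  | zero => exact h0
  | add x y _ _ hx hy => exact hadd x y hx hy
  | smul s x _ hx => exact hsmul s x hx

/-- The kernel of `Ω_{T/R} → Ω_{T/S}` is spanned by the differentials of elements of `S`. -/
theorem map_eq_zero_iff (R : Type*) (S : Type*) (T : Type*) [CommRing R] [CommRing S] [CommRing T] [Algebra R S]
    [Algebra S T] [Algebra R T] [IsScalarTower R S T] (ω : Ω[T⁄R]) :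
    KaehlerDifferential.map R S T T ω = 0 ↔
      ω ∈ Submodule.span T (Set.range fun s : S => KaehlerDifferential.D R T (algebraMap S T s)) := by
  constructor
  · intro h
    obtain ⟨x, rfl⟩ := (KaehlerDifferential.exact_mapBaseChange_map R S T _).1 h
    induction x with
    | zero => simp
    | add x y hx hy =>
      have hx' := hx
      rw [map_add]
      refine Submodule.add_mem _ ?_ ?_
      · exact hx ((KaehlerDifferential.exact_mapBaseChange_map R S T _).2 ⟨x, rfl⟩)
      · exact hy ((KaehlerDifferential.exact_mapBaseChange_map R S T _).2 ⟨y, rfl⟩)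
    | tmul c x =>
      rw [KaehlerDifferential.mapBaseChange_tmul]
      refine Submodule.smul_mem _ c ?_
      clear h
      induction x using kaehler_induction with
      | hD b =>
        rw [KaehlerDifferential.map_D]
        exact Submodule.subset_span ⟨b, rfl⟩
      | h0 => rw [map_zero]; exact Submodule.zero_mem _
      | hadd x y hx hy => rw [map_add]; exact Submodule.add_mem _ hx hy
      | hsmul b x hx =>
        have e1 : KaehlerDifferential.map R R S T (b • x) = b • KaehlerDifferential.map R R S T x :=
          map_smul _ _ _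
        rw [e1, ← algebraMap_smul T b]
        exact Submodule.smul_mem _ _ hx
  · intro h
    induction h using Submodule.span_induction with
    | mem x hx =>
      obtain ⟨s, rfl⟩ := hx
      rw [KaehlerDifferential.map_D]
      simp
    | zero => exact map_zero _
    | add x y _ _ hx hy => rw [map_add, hx, hy, add_zero]
    | smul t x _ hx => rw [map_smul, hx, smul_zero]

end Kaehler

end K99.ImpLin
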