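import Groth.Agent.Ega41.PBasisPres
import Groth.Agent.Ega41.PBasisGen
import Mathlib.RingTheory.Smooth.Basic
import Mathlib.FieldTheory.Perfect
import Mathlib.RingTheory.Nilpotent.Lemmas

/-!
Unique lifting along nilpotent ideals for a reduced algebra with a `p`-basis over a perfect ring.
-/

set_option autoImplicit false
universe u v w

namespace K99.PBasisLift

variable (p : ℕ) [Fact p.Prime]

theorem add_pow_p {E : Type*} [CommRing E] (hE : (p : E) = 0) (x y : E) :
    (x + y) ^ p = x ^ p + y ^ p := by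
  obtain ⟨r, hr⟩ := exists_add_pow_prime_eq (Fact.out : p.Prime) x y
  rw [hr, hE]
  ring

/-- The square-zero step. -/
theorem step {A B : Type u} [CommRing A] [CharP A p] [PerfectRing A p] [CommRing B] [Algebra A B]
    [CharP B p] [IsReduced B] {ι : Type u} (x : ι → B) (hx : EGA41.IsPBasis p A x)
    (E : Type u) [CommRing E] [Algebra A E] (R : Ideal E) (hR : R ^ 2 = ⊥)
    (v : B →ₐ[A] E ⧸ R) (z : ι → E) (hz : ∀ i, Ideal.Quotient.mk R (z i) = v (x i)) :
    ∃! w : B →ₐ[A] E, (Ideal.Quotient.mkₐ A R).comp w = v ∧ ∀ i, w (x i) = z i := by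
  have hp : p.Prime := Fact.out
  have hE : (p : E) = 0 := by
    rw [← map_natCast (algebraMap A E), CharP.cast_eq_zero, map_zero]
  have hB : (p : B) = 0 := CharP.cast_eq_zero B p
  -- `p`-th powers only depend on the class modulo `R`
  have hpow : ∀ e e' : E, Ideal.Quotient.mk R e = Ideal.Quotient.mk R e' → e ^ p = e' ^ p := by
    intro e e' h
    have h1 : e - e' ∈ R := Ideal.Quotient.eq.mp h
    have h2 : (e - e') ^ p = 0 := by
      have h3 : (e - e') ^ 2 ∈ R ^ 2 := Ideal.pow_mem_pow h1 2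
      rw [hR, Ideal.mem_bot] at h3
      obtain ⟨k, hk⟩ := Nat.exists_eq_add_of_le hp.two_le
      rw [hk, pow_add, h3, zero_mul]
    have h4 : e ^ p = ((e - e') + e') ^ p := by ring
    rw [h4, add_pow_p p hE, h2, zero_add]
  -- the map `b ↦ (lift of v b)^p`
  choose e he using fun b : B => Ideal.Quotient.mk_surjective (v b)
  let g : B →+* E :=
    { toFun := fun b => e b ^ p
      map_one' := by
        rw [hpow (e 1) 1 (by rw [he, map_one, map_one]), one_pow]
      map_zero' := by
        rw [hpow (e 0) 0 (by rw [he, map_zero, map_zero]), zero_pow hp.ne_zero]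
      map_mul' := fun b b' => by
        rw [hpow (e (b * b')) (e b * e b') (by rw [he, map_mul, map_mul, he, he]), mul_pow]
      map_add' := fun b b' => by
        rw [hpow (e (b + b')) (e b + e b') (by rw [he, map_add, map_add, he, he]), add_pow_p p hE] }
  have hg : ∀ (b : B) (c : E), Ideal.Quotient.mk R c = v b → g b = c ^ p := fun b c hc =>
    hpow _ _ (by rw [he, hc])
  -- the Frobenius identifies `B` with `S = A[B^p]`
  let S := EGA41.pPowerSubalgebra p A B
  let φ : B →+* S :=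
    { toFun := fun b => Groth.Agent.Ega41.PBasisGen.powElt p (A := A) b
      map_one' := Subtype.ext (one_pow p)
      map_zero' := Subtype.ext (zero_pow hp.ne_zero)
      map_mul' := fun b b' => Subtype.ext (mul_pow b b' p)
      map_add' := fun b b' => Subtype.ext (add_pow_p p hB b b') }
  have hφ : ∀ b, ((φ b : S) : B) = b ^ p := fun b => rfl
  have hφA : ∀ a : A, φ (algebraMap A B a) = algebraMap A S (a ^ p) := fun a => by
    apply Subtype.ext
    rw [hφ, ← map_pow]
    rfl
  have hφinj : Function.Injective φ := by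
    rw [injective_iff_map_eq_zero]
    intro b hb
    have h1 : b ^ p = 0 := by rw [← hφ, hb]; rfl
    exact eq_zero_of_pow_eq_zero h1
  have hroot : ∀ a : A, ∃ a' : A, a' ^ p = a := fun a =>
    (PerfectRing.bijective_frobenius (R := A) (p := p)).2 a
  have hφsurj : Function.Surjective φ := by
    have h1 : S ≤ { φ.range.map (S.val : S →+* B) with
        algebraMap_mem' := fun a => by
          obtain ⟨a', rfl⟩ := hroot a
          exact ⟨φ (algebraMap A B a'), ⟨_, rfl⟩, by
            change ((φ (algebraMap A B a') : S) : B) = _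
            rw [hφ, map_pow]⟩ } := by
      refine Algebra.adjoin_le ?_
      rintro _ ⟨b, rfl⟩
      exact ⟨φ b, ⟨b, rfl⟩, rfl⟩
    intro c
    obtain ⟨c', ⟨b, rfl⟩, h2⟩ := h1 c.2
    exact ⟨b, Subtype.ext h2⟩
  let φe : B ≃+* S := RingEquiv.ofBijective φ ⟨hφinj, hφsurj⟩
  let f : S →+* E := g.comp (φe.symm : S →+* B)
  have hf : ∀ b, f (φ b) = g b := fun b => by
    change g (φe.symm (φe b)) = g b
    rw [RingEquiv.symm_apply_apply]
  have hfA : ∀ a : A, f (algebraMap A S a) = algebraMap A E a := fun a => by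
    obtain ⟨a', rfl⟩ := hroot a
    rw [← hφA, hf, hg _ (algebraMap A E a') (by
      rw [v.commutes]
      rfl), map_pow]
  letI : Algebra S E := f.toAlgebra
  have hSE : ∀ c : S, algebraMap S E c = f c := fun c => rfl
  have hli := hx.1
  have hsp := hx.2
  have hxa : ∀ i, x i ^ p = algebraMap S B (φ (x i)) := fun i => rfl
  -- any lift is `S`-linear
  have hlinE : ∀ w : B →ₐ[A] E, (Ideal.Quotient.mkₐ A R).comp w = v →
      ∀ c : S, w (algebraMap S B c) = algebraMap S E c := by
    intro w hw c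
    obtain ⟨b, rfl⟩ := hφsurj c
    rw [hSE, hf, hg b (w b) (AlgHom.congr_fun hw b), ← map_pow]
    rfl
  have hlinv : ∀ c : S, v (algebraMap S B c) = algebraMap S (E ⧸ R) c := by
    intro c
    obtain ⟨b, rfl⟩ := hφsurj c
    change v (b ^ p) = Ideal.Quotient.mk R (f (φ b))
    rw [hf, hg b (e b) (he b), map_pow, map_pow, he]
  obtain ⟨w, hw, hwu⟩ := Groth.Agent.Ega41.PBasisPres.exists_unique_algHom hp.pos hxa hli hsp z
    (fun i => by rw [hSE, hf, hg _ _ (hz i)])
  obtain ⟨w₀, -, hw₀u⟩ := Groth.Agent.Ega41.PBasisPres.exists_unique_algHom (E := E ⧸ R) hp.pos hxa hli hsp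
    (fun i => v (x i)) (fun i => by
      rw [← map_pow, ← hlinv]
      rfl)
  let vS : B →ₐ[S] E ⧸ R := { (v : B →+* E ⧸ R) with commutes' := hlinv }
  have hmk : (Ideal.Quotient.mkₐ S R).comp w = vS := by
    rw [hw₀u ((Ideal.Quotient.mkₐ S R).comp w) (fun i => by
      rw [AlgHom.comp_apply, hw]
      exact hz i), hw₀u vS (fun i => rfl)]
  let wA : B →ₐ[A] E := { (w : B →+* E) with
    commutes' := fun a => by
      change w (algebraMap A B a) = _
      have h1 : algebraMap A B a = algebraMap S B (algebraMap A S a) := rfl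
      rw [h1, w.commutes, hSE, hfA] }
  refine ⟨wA, ⟨AlgHom.ext fun b => AlgHom.congr_fun hmk b, hw⟩, ?_⟩
  rintro w' ⟨hw'1, hw'2⟩
  have h2 := hwu { (w' : B →+* E) with commutes' := hlinE w' hw'1 } hw'2
  exact AlgHom.ext fun b => AlgHom.congr_fun h2 b

theorem existsUnique_lift {A B : Type u} [CommRing A] [CharP A p] [PerfectRing A p] [CommRing B]
    [Algebra A B] [CharP B p] [IsReduced B] {ι : Type u} (x : ι → B) (hx : EGA41.IsPBasis p A x)
    (E : Type u) [CommRing E] [Algebra A E] (R : Ideal E) (hR : IsNilpotent R)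
    (v : B →ₐ[A] E ⧸ R) (z : ι → E) (hz : ∀ i, Ideal.Quotient.mk R (z i) = v (x i)) :
    ∃! w : B →ₐ[A] E, (Ideal.Quotient.mkₐ A R).comp w = v ∧ ∀ i, w (x i) = z i := by
  revert z v
  refine Ideal.IsNilpotent.induction_on (S := E) R hR (P := fun ⦃E⦄ _ R => ∀ [Algebra A E]
    (v : B →ₐ[A] E ⧸ R) (z : ι → E), (∀ i, Ideal.Quotient.mk R (z i) = v (x i)) →
    ∃! w : B →ₐ[A] E, (Ideal.Quotient.mkₐ A R).comp w = v ∧ ∀ i, w (x i) = z i) ?_ ?_
  · intro E _ R hR _ v z hz
    exact step p x hx E R hR v z hz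
  · intro E _ I J hIJ h₁ h₂ _ v z hz
    let e : ((E ⧸ I) ⧸ J.map (Ideal.Quotient.mk I)) ≃ₐ[A] E ⧸ J := DoubleQuot.quotQuotEquivQuotOfLEₐ A hIJ
    have he : ∀ y : E, e (Ideal.Quotient.mk _ (Ideal.Quotient.mk I y)) = Ideal.Quotient.mk J y := fun y => rfl
    obtain ⟨w₁, ⟨hw₁, hw₁x⟩, hw₁u⟩ := h₂ ((e.symm : E ⧸ J →ₐ[A] _).comp v) (fun i => Ideal.Quotient.mk I (z i))
      (fun i => by
        apply e.injective
        rw [he, hz]
        exact (AlgEquiv.apply_symm_apply e _).symm)
    obtain ⟨w, ⟨hw, hwx⟩, hwu⟩ := h₁ w₁ z (fun i => (hw₁x i).symm)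
    refine ⟨w, ⟨AlgHom.ext fun b => ?_, hwx⟩, ?_⟩
    · have h3 := AlgHom.congr_fun hw b
      have h4 := congrArg e (AlgHom.congr_fun hw₁ b)
      rw [AlgHom.comp_apply, ← h3] at h4
      exact h4.trans (AlgEquiv.apply_symm_apply e _)
    · rintro w' ⟨hw', hw'x⟩
      refine hwu w' ⟨hw₁u _ ⟨AlgHom.ext fun b => ?_, fun i => by rw [AlgHom.comp_apply, hw'x]; rfl⟩, hw'x⟩
      apply e.injective
      have h5 := AlgHom.congr_fun hw' b
      refine Eq.trans ?_ (AlgEquiv.apply_symm_apply e _).symm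
      exact h5

end K99.PBasisLift
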