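import Groth.Agent.EGA41.K99.FracInter
import Mathlib.RingTheory.MvPowerSeries.Expand
import Mathlib.RingTheory.MvPowerSeries.Equiv
import Mathlib.LinearAlgebra.Dimension.Free

/-!
`k[[T]]` is free of finite rank over `F[[T^p]]` for `[k : F]` finite.
-/

set_option autoImplicit false
universe u v w

namespace K99.PSpBasis

open K99.FracInter MvPowerSeries

section D

variable {σ : Type*} {k : Type*} [Field k] (p : ℕ)

/-- the part of `f` with exponents `≡ a` modulo `p` -/
noncomputable def D (a : σ →₀ ℕ) : MvPowerSeries σ k →+ MvPowerSeries σ k where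
  toFun f := fun n => coeff (p • n + a) f
  map_zero' := by ext n; rfl
  map_add' f g := by ext n; rfl

theorem coeff_D (a : σ →₀ ℕ) (f : MvPowerSeries σ k) (n : σ →₀ ℕ) :
    coeff n (D p a f) = coeff (p • n + a) f := rfl

theorem D_expand_mul (hp : p ≠ 0) (a : σ →₀ ℕ) (ha : ∀ i, a i < p) (g f : MvPowerSeries σ k) :
    D p a (expand p hp g * f) = g * D p a f := by
  classical
  ext n
  rw [coeff_D, coeff_mul, coeff_mul]
  symm
  refine Finset.sum_of_injOn (fun x => (p • x.1, p • x.2 + a)) ?_ ?_ ?_ ?_
  · rintro ⟨x1, x2⟩ _ ⟨y1, y2⟩ _ h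
    simp only [Prod.mk.injEq] at h
    obtain ⟨h1, h2⟩ := h
    have e1 : x1 = y1 := by
      ext i
      have := DFunLike.congr_fun h1 i
      simpa [hp] using this
    have e2 : x2 = y2 := by
      ext i
      have := DFunLike.congr_fun h2 i
      simpa [hp] using this
    rw [e1, e2]
  · rintro ⟨x1, x2⟩ hx
    simp only [Finset.mem_coe, Finset.mem_antidiagonal] at hx ⊢
    rw [← hx, smul_add, add_assoc]
  · rintro ⟨u, v⟩ huv hnot
    rw [Finset.mem_antidiagonal] at huv
    change coeff u (expand p hp g) * coeff v f = 0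
    by_cases hdvd : ∀ i, p ∣ u i
    · exfalso
      apply hnot
      let u' : σ →₀ ℕ := u.mapRange (fun x => x / p) (Nat.zero_div p)
      have hu' : p • u' = u := by
        ext i
        change p * (u i / p) = u i
        exact Nat.mul_div_cancel' (hdvd i)
      have hle : u' ≤ n := by
        intro i
        have h1 := DFunLike.congr_fun huv i
        have h2 := DFunLike.congr_fun hu' i
        simp only [Finsupp.add_apply, Finsupp.smul_apply, smul_eq_mul] at h1 h2
        have h3 := ha i
        by_contra hlt
        have h4 : n i + 1 ≤ u' i := by omega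
        have h5 : p * (n i + 1) ≤ p * u' i := Nat.mul_le_mul_left p h4
        rw [Nat.mul_add, mul_one] at h5
        omega
      refine ⟨(u', n - u'), ?_, ?_⟩
      · simp only [Finset.mem_coe, Finset.mem_antidiagonal]
        exact add_tsub_cancel_of_le hle
      · simp only [Prod.mk.injEq]
        refine ⟨hu', ?_⟩
        have h6 : p • u' + (p • (n - u') + a) = u + v := by
          rw [← add_assoc, ← smul_add, add_tsub_cancel_of_le hle]
          exact huv.symm
        rw [hu'] at h6
        exact add_left_cancel h6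
    · push Not at hdvd
      obtain ⟨i, hi⟩ := hdvd
      rw [coeff_expand_of_not_dvd p hp g hi, zero_mul]
  · rintro ⟨x1, x2⟩ _
    change coeff x1 g * coeff x2 (D p a f) = coeff (p • x1) (expand p hp g) * coeff (p • x2 + a) f
    rw [coeff_D, coeff_expand_smul]

theorem D_monomial (a a' : σ →₀ ℕ) (ha : ∀ i, a i < p) (ha' : ∀ i, a' i < p) (c : k) [Decidable (a = a')] :
    D p a (monomial a' c) = if a = a' then C c else 0 := by
  classical
  ext n
  rw [coeff_D, coeff_monomial]
  by_cases h : a = a'
  · rw [if_pos h, coeff_C]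
    subst h
    by_cases hn : n = 0
    · subst hn
      simp
    · rw [if_neg hn, if_neg]
      intro h1
      apply hn
      ext i
      have := DFunLike.congr_fun h1 i
      have h2 := ha i
      simp only [Finsupp.add_apply, Finsupp.smul_apply, smul_eq_mul] at this
      have h3 : p * n i = 0 := by omega
      rcases Nat.mul_eq_zero.1 h3 with h4 | h4
      · omega
      · simpa using h4
  · rw [if_neg h, if_neg, map_zero]
    intro h1
    apply h
    ext i
    have h2 := DFunLike.congr_fun h1 i
    have h3 := ha i
    have h4 := ha' i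
    simp only [Finsupp.add_apply, Finsupp.smul_apply, smul_eq_mul] at h2
    have h5 : n i = 0 := by
      by_contra hne
      have h6 : 1 ≤ n i := Nat.one_le_iff_ne_zero.2 hne
      have h7 : p * 1 ≤ p * n i := Nat.mul_le_mul_left p h6
      omega
    rw [h5, mul_zero, zero_add] at h2
    exact h2

theorem ext_D (hp : 0 < p) (f g : MvPowerSeries σ k) (h : ∀ a : σ →₀ ℕ, (∀ i, a i < p) → D p a f = D p a g) :
    f = g := by
  ext m
  let a : σ →₀ ℕ := m.mapRange (fun x => x % p) (Nat.zero_mod p)
  let n : σ →₀ ℕ := m.mapRange (fun x => x / p) (Nat.zero_div p)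
  have hm : p • n + a = m := by
    ext i
    change p * (m i / p) + m i % p = m i
    exact Nat.div_add_mod _ _
  have h1 := congrArg (coeff n) (h a (fun i => Nat.mod_lt _ hp))
  rwa [coeff_D, coeff_D, hm] at h1

end D

section Sub

variable {r : ℕ} {k : Type*} [Field k] (p : ℕ) (hp : p ≠ 0) (F : Subfield k)

/-- The subring `F[[T^p]]` of `k[[T]]`. -/
noncomputable def sub (r : ℕ) : Subring (MvPowerSeries (Fin r) k) :=
  coeffSubring (Fin r) F ⊓ (expand (σ := Fin r) (R := k) p hp : MvPowerSeries (Fin r) k →+* _).range

theorem expand_mem (g : MvPowerSeries (Fin r) k) (hg : g ∈ coeffSubring (Fin r) F) :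
    expand p hp g ∈ sub p hp F r := by
  refine ⟨fun n => ?_, ⟨g, rfl⟩⟩
  by_cases hdvd : ∀ i, p ∣ n i
  · let n' : Fin r →₀ ℕ := n.mapRange (fun x => x / p) (Nat.zero_div p)
    have hn' : p • n' = n := by
      ext i
      change p * (n i / p) = n i
      exact Nat.mul_div_cancel' (hdvd i)
    rw [← hn', coeff_expand_smul]
    exact hg n'
  · push Not at hdvd
    obtain ⟨i, hi⟩ := hdvd
    rw [coeff_expand_of_not_dvd p hp g hi]
    exact zero_mem F

theorem exists_of_mem (s : MvPowerSeries (Fin r) k) (hs : s ∈ sub p hp F r) :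
    ∃ g ∈ coeffSubring (Fin r) F, expand p hp g = s := by
  obtain ⟨hs1, g, hg⟩ := hs
  have hg' : expand p hp g = s := hg
  refine ⟨g, fun n => ?_, hg'⟩
  rw [← coeff_expand_smul p hp g n, hg']
  exact hs1 _

/-- The ring `F[[T^p]]` is Noetherian. -/
theorem isNoetherianRing_sub : IsNoetherianRing (sub p hp F r) := by
  let ψ : MvPowerSeries (Fin r) F →+* MvPowerSeries (Fin r) k :=
    (expand (σ := Fin r) (R := k) p hp : MvPowerSeries (Fin r) k →+* _).comp (MvPowerSeries.map F.subtype)
  have hψ : ψ.range = sub p hp F r := by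
    ext s
    constructor
    · rintro ⟨g, rfl⟩
      refine expand_mem p hp F _ (fun n => ?_)
      rw [coeff_map]
      exact (coeff n g).2
    · intro hs
      obtain ⟨g, hg, rfl⟩ := exists_of_mem p hp F s hs
      refine ⟨fun n => ⟨coeff n g, hg n⟩, ?_⟩
      have e : MvPowerSeries.map F.subtype (fun n => ⟨coeff n g, hg n⟩ : MvPowerSeries (Fin r) F) = g := by
        ext n
        rw [coeff_map]
        rfl
      change expand p hp (MvPowerSeries.map F.subtype (fun n => ⟨coeff n g, hg n⟩ : MvPowerSeries (Fin r) F)) = _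
      rw [e]
  rw [← hψ]
  infer_instance

variable {F} {J : Type*} [Fintype J] (b : Module.Basis J F k)

/-- The exponents of the basis elements. -/
noncomputable def expo (p : ℕ) {r : ℕ} (a : Fin r → Fin p) : Fin r →₀ ℕ :=
  Finsupp.equivFunOnFinite.symm fun i => (a i : ℕ)

theorem expo_lt (a : Fin r → Fin p) (i : Fin r) : expo p a i < p := (a i).2

theorem expo_injective : Function.Injective (expo p (r := r)) := by
  intro a a' h
  funext i
  apply Fin.ext
  exact DFunLike.congr_fun h i

/-- The elements of the basis. -/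
noncomputable def vec (x : (Fin r → Fin p) × J) : MvPowerSeries (Fin r) k :=
  monomial (expo p x.1) (b x.2)

/-- The coordinate functions. -/
noncomputable def coord (x : (Fin r → Fin p) × J) :
    MvPowerSeries (Fin r) k →ₗ[sub p hp F r] sub p hp F r where
  toFun f := ⟨expand p hp (mapCoeff (b.coord x.2) (D p (expo p x.1) f)),
    expand_mem p hp F _ (mapCoeff_mem _ _)⟩
  map_add' f g := by
    apply Subtype.ext
    change expand p hp (mapCoeff (b.coord x.2) (D p (expo p x.1) (f + g))) = _
    have : mapCoeff (b.coord x.2) (D p (expo p x.1) (f + g)) =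
        mapCoeff (b.coord x.2) (D p (expo p x.1) f) + mapCoeff (b.coord x.2) (D p (expo p x.1) g) := by
      ext n
      rw [map_add, coeff_mapCoeff, map_add, map_add, map_add]
      rfl
    rw [this, map_add]
    rfl
  map_smul' s f := by
    apply Subtype.ext
    obtain ⟨g, hg, hgs⟩ := exists_of_mem p hp F s.1 s.2
    change expand p hp (mapCoeff (b.coord x.2) (D p (expo p x.1) (s.1 * f))) =
      s.1 * expand p hp (mapCoeff (b.coord x.2) (D p (expo p x.1) f))
    rw [← hgs, D_expand_mul p hp _ (expo_lt p x.1), mapCoeff_mul _ _ hg, map_mul]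

theorem coe_coord (x : (Fin r → Fin p) × J) (f : MvPowerSeries (Fin r) k) :
    (coord p hp b x f : MvPowerSeries (Fin r) k) =
      expand p hp (mapCoeff (b.coord x.2) (D p (expo p x.1) f)) := rfl

theorem mapCoeff_C (ρ : k →ₗ[F] F) (c : k) :
    mapCoeff ρ (C (σ := Fin r) c) = C (ρ c : k) := by
  classical
  ext n
  rw [coeff_mapCoeff, coeff_C, coeff_C]
  split_ifs
  · rfl
  · rw [map_zero]
    rfl

theorem coord_vec [DecidableEq J] (x y : (Fin r → Fin p) × J) :
    coord p hp b x (vec p b y) = if x = y then 1 else 0 := by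
  classical
  apply Subtype.ext
  rw [coe_coord, vec, D_monomial p _ _ (expo_lt p x.1) (expo_lt p y.1)]
  by_cases h1 : x.1 = y.1
  · rw [if_pos (congrArg _ h1), mapCoeff_C, Module.Basis.coord_apply, Module.Basis.repr_self,
      Finsupp.single_apply]
    by_cases h2 : y.2 = x.2
    · rw [if_pos h2, if_pos (Prod.ext h1 h2.symm)]
      simp
    · rw [if_neg h2, if_neg (fun h => h2 (congrArg Prod.snd h).symm)]
      simp
  · rw [if_neg (fun h => h1 (expo_injective p h)), if_neg (fun h => h1 (congrArg Prod.fst h))]
    have : mapCoeff (b.coord x.2) (0 : MvPowerSeries (Fin r) k) = 0 := by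
      ext n
      rw [coeff_mapCoeff, map_zero, map_zero]
      rfl
    rw [this, map_zero]
    rfl

theorem sum_coord (f : MvPowerSeries (Fin r) k) :
    ∑ x, (coord p hp b x f) • vec p b x = f := by
  classical
  apply ext_D p (Nat.pos_of_ne_zero hp)
  intro a ha
  rw [map_sum]
  have h1 : ∀ x : (Fin r → Fin p) × J, D p a ((coord p hp b x f) • vec p b x) =
      if a = expo p x.1 then mapCoeff (b.coord x.2) (D p a f) * C (b x.2) else 0 := by
    intro x
    change D p a ((coord p hp b x f : MvPowerSeries (Fin r) k) * vec p b x) = _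
    rw [coe_coord, D_expand_mul p hp a ha, vec, D_monomial p _ _ ha (expo_lt p x.1)]
    split_ifs with h
    · rw [h]
    · rw [mul_zero]
  simp only [h1]
  rw [Fintype.sum_prod_type]
  let a' : Fin r → Fin p := fun i => ⟨a i, ha i⟩
  have ha' : expo p a' = a := by
    ext i
    rfl
  rw [Finset.sum_eq_single a']
  · simp only [ha', if_true]
    ext n
    rw [map_sum]
    have h2 : ∀ j : J, coeff n (mapCoeff (b.coord j) (D p a f) * C (b j)) =
        (b.repr (coeff n (D p a f)) j) • b j := by
      intro j
      rw [coeff_mul_C, coeff_mapCoeff]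
      rfl
    simp only [h2]
    exact b.sum_repr _
  · intro c _ hc
    apply Finset.sum_eq_zero
    intro j _
    rw [if_neg]
    intro h
    apply hc
    apply expo_injective p
    rw [ha', h]
  · intro h
    exact absurd (Finset.mem_univ _) h

/-- `k[[T]]` is free of finite rank over `F[[T^p]]`. -/
noncomputable def basis : Module.Basis ((Fin r → Fin p) × J) (sub p hp F r) (MvPowerSeries (Fin r) k) :=
  Module.Basis.ofEquivFun
    { toFun := fun f x => coord p hp b x f
      invFun := fun s => ∑ x, s x • vec p b x
      left_inv := sum_coord p hp b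
      right_inv := by
        classical
        intro s
        funext x
        change coord p hp b x (∑ y, s y • vec p b y) = s x
        rw [map_sum, Finset.sum_eq_single x]
        · rw [map_smul, coord_vec, if_pos rfl, smul_eq_mul, mul_one]
        · intro y _ hy
          rw [map_smul, coord_vec, if_neg hy.symm, smul_zero]
        · intro h
          exact absurd (Finset.mem_univ _) h
      map_add' := fun f g => by funext x; exact map_add _ _ _
      map_smul' := fun s f => by funext x; exact map_smul _ _ _ }

section Retr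

variable (F) (ρ : k →ₗ[F] F)

/-- The retraction onto `F[[T^p]]`. -/
noncomputable def retr (f : MvPowerSeries (Fin r) k) : MvPowerSeries (Fin r) k :=
  expand p hp (mapCoeff ρ (D p 0 f))

omit [Fintype J] in
theorem retr_mem (f : MvPowerSeries (Fin r) k) : retr p hp F ρ f ∈ sub p hp F r :=
  expand_mem p hp F _ (mapCoeff_mem _ _)

theorem retr_eq (hρ : ∀ x : F, ρ x = x) (f : MvPowerSeries (Fin r) k) (hf : f ∈ sub p hp F r) :
    retr p hp F ρ f = f := by
  obtain ⟨g, hg, rfl⟩ := exists_of_mem p hp F f hf
  have : D p 0 (expand p hp g) = g := by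
    ext n
    rw [coeff_D, add_zero, coeff_expand_smul]
  rw [retr, this, mapCoeff_eq ρ hρ g hg]

theorem retr_mul (s : MvPowerSeries (Fin r) k) (hs : s ∈ sub p hp F r) (f : MvPowerSeries (Fin r) k) :
    retr p hp F ρ (s * f) = s * retr p hp F ρ f := by
  obtain ⟨g, hg, rfl⟩ := exists_of_mem p hp F s hs
  rw [retr, retr, D_expand_mul p hp 0 (fun i => Nat.pos_of_ne_zero hp), mapCoeff_mul _ _ hg, map_mul]

end Retr

end Sub

end K99.PSpBasis
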