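import Groth.Agent.EGA41.K99.ImpCut
import Groth.Agent.EGA41.K99.PSpBasis
import Mathlib.RingTheory.MvPowerSeries.NoZeroDivisors

/-!
The filtered family of subfields of finite index containing `k^p` with intersection `k^p`.
-/

set_option autoImplicit false
universe u v w

namespace K99.PFamily

open K99.ImpCut

/-- A family of subfields of finite index containing the `p`-th powers with intersection the subfield of `p`-th powers. -/
theorem exists_family (p : ℕ) [hp : Fact p.Prime] (k : Type u) [Field k] [CharP k p] :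
    ∃ (ι : Type u) (_ : Nonempty ι) (F : ι → Subfield k),
      (∀ a b : ι, ∃ c, F c ≤ F a ⊓ F b) ∧ (∀ i, Module.Finite (F i) k) ∧ (∀ i x, x ^ p ∈ F i) ∧
      (∀ z, (∀ i, z ∈ F i) → ∃ y, y ^ p = z) := by
  let k₀ : Subfield k := (frobenius k p).fieldRange
  have hk₀ : ∀ y : k, y ^ p ∈ k₀ := fun y => ⟨y, rfl⟩
  obtain ⟨ι, x, b, hb⟩ := exists_basis_D k₀ k
  have hspan : Submodule.span k (Set.range fun i => KaehlerDifferential.D k₀ k (x i)) = ⊤ := by
    rw [← b.span_eq]
    congr 2
    funext i
    exact (hb i).symm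
  have hbx : (fun i => KaehlerDifferential.D k₀ k (x i)) = b := by
    funext i; exact (hb i).symm
  refine ⟨{S : Set ι // S.Finite}, ⟨⟨∅, Set.finite_empty⟩⟩,
    fun S => (cut p k₀ x S.1).toSubfield, ?_, ?_, ?_, ?_⟩
  · intro S S'
    refine ⟨⟨S.1 ∪ S'.1, S.2.union S'.2⟩, ?_⟩
    have hle : ∀ T T' : Set ι, T ⊆ T' → cut p k₀ x T' ≤ cut p k₀ x T := by
      intro T T' h
      apply IntermediateField.adjoin.mono
      apply Set.union_subset_union_right
      apply Set.image_mono
      exact Set.compl_subset_compl.2 h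
    exact le_inf (fun y hy => hle _ _ Set.subset_union_left hy)
      (fun y hy => hle _ _ Set.subset_union_right hy)
  · intro S
    exact finite_cut p x S.1 S.2 hspan
  · intro S y
    exact pow_mem_cut p x S.1 y
  · intro z hz
    have h0 : KaehlerDifferential.D k₀ k z = 0 := by
      rw [← b.repr.map_eq_zero_iff]
      by_contra hne
      have hS := (b.repr (KaehlerDifferential.D k₀ k z)).support.finite_toSet
      have h1 := D_mem_of_mem_cut p x _ z (hz ⟨_, hS⟩)
      rw [hbx, Module.Basis.mem_span_image] at h1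
      apply hne
      rw [← Finsupp.support_eq_empty]
      apply Finset.eq_empty_of_forall_notMem
      intro i hi
      exact h1 hi hi
    rw [Groth.Agent.Ega41.PBasisField.D_eq_zero_iff p] at h0
    have hle : EGA41.pPowerSubalgebra p k₀ k ≤ ⊥ := by
      apply Algebra.adjoin_le
      rintro _ ⟨y, rfl⟩
      exact ⟨⟨y ^ p, hk₀ y⟩, rfl⟩
    obtain ⟨⟨_, y, rfl⟩, hy⟩ := hle h0
    exact ⟨y, hy⟩

end K99.PFamily
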