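import Groth.Agent.Ega41.OmegaProj
import Mathlib.Algebra.Module.Projective

/-!
Differentials of an adically formally smooth algebra are projective modulo open ideals.
-/

set_option autoImplicit false
universe u v w

open TensorProduct

namespace K99.ProjKaehler

variable {A B : Type u} [CommRing A] [CommRing B] [Algebra A B]

theorem projective_kaehler {𝔟 : Ideal B} (h : CAlgX.IsAdicFormallySmooth A B 𝔟) (𝔄 : Ideal B)
    (h𝔄 : ∃ n : ℕ, 𝔟 ^ n ≤ 𝔄) : Module.Projective (B ⧸ 𝔄) ((B ⧸ 𝔄) ⊗[B] Ω[B⁄A]) := by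
  obtain ⟨n, hn⟩ := h𝔄
  refine Module.Projective.of_lifting_property'' fun f hf => ?_
  let D : Derivation A B ((B ⧸ 𝔄) ⊗[B] Ω[B⁄A]) :=
    (TensorProduct.mk B (B ⧸ 𝔄) (Ω[B⁄A]) 1).compDer (KaehlerDifferential.D A B)
  obtain ⟨D', hD'⟩ := Groth.Agent.Ega41.OmegaProj.exists_derivation_lift h n
    (M := ((B ⧸ 𝔄) ⊗[B] Ω[B⁄A]) →₀ (B ⧸ 𝔄)) (N := (B ⧸ 𝔄) ⊗[B] Ω[B⁄A])
    (fun b hb m => by
      rw [← algebraMap_smul (B ⧸ 𝔄) b m, Ideal.Quotient.algebraMap_eq,
        Ideal.Quotient.eq_zero_iff_mem.mpr (hn hb), zero_smul])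
    (f.restrictScalars B) hf D
  refine ⟨LinearMap.liftBaseChange (B ⧸ 𝔄) D'.liftKaehlerDifferential, ?_⟩
  have h1 : ∀ ω : Ω[B⁄A], f (D'.liftKaehlerDifferential ω) = (1 : B ⧸ 𝔄) ⊗ₜ[B] ω := by
    have h2 : (f.restrictScalars B) ∘ₗ D'.liftKaehlerDifferential =
        TensorProduct.mk B (B ⧸ 𝔄) (Ω[B⁄A]) 1 := by
      refine Derivation.liftKaehlerDifferential_unique _ _ ?_
      ext b
      have := hD' b
      simpa [D] using this
    exact fun ω => LinearMap.congr_fun h2 ω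
  refine TensorProduct.AlgebraTensorModule.ext fun s ω => ?_
  rw [LinearMap.comp_apply, LinearMap.liftBaseChange_tmul, map_smul, h1, TensorProduct.smul_tmul',
    smul_eq_mul, mul_one, LinearMap.id_apply]

end K99.ProjKaehler
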