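import Groth.Agent.EGA41.K99.SymKey
import Groth.Agent.Ega41.AdicRed
import Mathlib.RingTheory.Smooth.Basic

/-!
If `B/J` is formally smooth over `A`, `J/J²` is projective over `B/J` and `Sym(J/J²) → gr_J(B)` is bijective, then
`B` is formally smooth over `A` for the `J`-adic topology.
-/

set_option autoImplicit false
universe u v w

open Groth.Agent.Ega4late.H516 Groth.Agent.Ega4late.H520

namespace K99.SymBwd

open K99.SymKey

section Abstract

variable {B : Type u} [CommRing B] (J : Ideal B)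
  (s : J.Cotangent →ₗ[B ⧸ J] (J.Cotangent →₀ (B ⧸ J)))
  {E : Type*} [CommRing E] (K : Ideal E) (α : MvPolynomial J.Cotangent (B ⧸ J) →+* E)
  (β : B →+* E) (h1 : ∀ x : J, α (L J s (J.toCotangent x)) - β x ∈ K ^ 2)
  (h2 : ∀ x ∈ J, β x ∈ K)
  (h3 : ∀ b, α (MvPolynomial.C (Ideal.Quotient.mk J b)) - β b ∈ K)

include h1 h2 in
theorem alpha_L_mem (m : J.Cotangent) : α (L J s m) ∈ K := by
  obtain ⟨x, rfl⟩ := J.toCotangent_surjective m
  have e : α (L J s (J.toCotangent x)) = (α (L J s (J.toCotangent x)) - β x) + β x := by ring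
  rw [e]
  exact K.add_mem (Ideal.pow_le_self two_ne_zero (h1 x)) (h2 x x.2)

include h1 h2 in
theorem alpha_vars (hτ : ∀ f, α (tau J s f) = α f) (n : ℕ) (f : MvPolynomial J.Cotangent (B ⧸ J))
    (hf : f ∈ MvPolynomial.idealOfVars J.Cotangent (B ⧸ J) ^ n) : α f ∈ K ^ n := by
  have h4 : (MvPolynomial.idealOfVars J.Cotangent (B ⧸ J)).map α ≤ K := by
    rw [Ideal.map_le_iff_le_comap]
    refine Ideal.span_le.2 ?_
    rintro _ ⟨p, rfl⟩
    change α (MvPolynomial.X p) ∈ K
    rw [← hτ, tau_X]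
    exact alpha_L_mem J s K α β h1 h2 p
  have h5 : (MvPolynomial.idealOfVars J.Cotangent (B ⧸ J) ^ n).map α ≤ K ^ n := by
    rw [Ideal.map_pow]
    exact Ideal.pow_right_mono h4 n
  exact h5 (Ideal.mem_map_of_mem α hf)

include h1 h2 h3 in
theorem eq_zero_of_homogeneous (ι : Type u) [Fintype ι] [Nonempty ι]
    (hinj : Function.Injective (CanonMap.canonJ B J ι))
    (hβ : ∀ y, β y ∈ K ^ (Fintype.card ι + 1) → y ∈ J ^ (Fintype.card ι + 1))
    (g : MvPolynomial J.Cotangent (B ⧸ J)) (hgh : g.IsHomogeneous (Fintype.card ι))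
    (hgτ : tau J s g = g) (hαg : α g ∈ K ^ (Fintype.card ι + 1)) : g = 0 := by
  obtain ⟨z, hz⟩ := exists_G_eq J s (ι := ι) (f := g) hgh
  rw [hgτ] at hz
  obtain ⟨y, hy1, hy2⟩ := key J s K α β h1 h2 h3 z
  rw [hz] at hy2
  have h6 : β (y : B) ∈ K ^ (Fintype.card ι + 1) := by
    have e : β (y : B) = α g - (α g - β (y : B)) := by ring
    rw [e]
    exact Ideal.sub_mem _ hαg hy2
  have h7 := hβ y h6
  rw [← CanonMap.qJ_eq_zero_iff, ← hy1] at h7
  have h8 : z = 0 := hinj (h7.trans (map_zero _).symm)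
  rw [← hz, h8, map_zero]

include h1 h2 h3 in
theorem mem_pow_of_alpha_eq_zero
    (hinj : ∀ (ι : Type u) [Fintype ι] [Nonempty ι], Function.Injective (CanonMap.canonJ B J ι))
    (hτ : ∀ f, α (tau J s f) = α f) (m : ℕ)
    (hβ : ∀ n < m, ∀ y, β y ∈ K ^ (n + 1) → y ∈ J ^ (n + 1))
    (f : MvPolynomial J.Cotangent (B ⧸ J)) (hf : tau J s f = f) (h0 : α f = 0) :
    f ∈ MvPolynomial.idealOfVars J.Cotangent (B ⧸ J) ^ m := by
  have main : ∀ n ≤ m, f ∈ MvPolynomial.idealOfVars J.Cotangent (B ⧸ J) ^ n := by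
    intro n
    induction n with
    | zero => intro _; simp
    | succ n ih =>
      intro hn
      have hfn := ih (by omega)
      obtain ⟨g, hg⟩ : ∃ g, g = MvPolynomial.homogeneousComponent n f := ⟨_, rfl⟩
      have hgh : g.IsHomogeneous n := hg ▸ MvPolynomial.homogeneousComponent_isHomogeneous n f
      have hgτ : tau J s g = g := by
        rw [hg, ← tau_homogeneousComponent, hf]
      have hrest : f - g ∈ MvPolynomial.idealOfVars J.Cotangent (B ⧸ J) ^ (n + 1) := by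
        rw [MvPolynomial.mem_pow_idealOfVars_iff'] at hfn ⊢
        intro x hx
        rw [MvPolynomial.coeff_sub, hg, MvPolynomial.coeff_homogeneousComponent]
        split_ifs with hxn
        · exact sub_self _
        · rw [sub_zero]
          exact hfn x (by omega)
      have hαg : α g ∈ K ^ (n + 1) := by
        have h5 := alpha_vars J s K α β h1 h2 hτ (n + 1) _ hrest
        rw [map_sub, h0, zero_sub, neg_mem_iff] at h5
        exact h5
      have hg0 : g = 0 := by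
        rcases Nat.eq_zero_or_pos n with rfl | hn1
        · rw [MvPolynomial.homogeneousComponent_zero] at hg
          obtain ⟨b, hb⟩ := Ideal.Quotient.mk_surjective (MvPolynomial.coeff 0 f)
          rw [hg, ← hb] at hαg
          have h6 : β b ∈ K ^ (0 + 1) := by
            have e : β b = α (MvPolynomial.C (Ideal.Quotient.mk J b)) -
                (α (MvPolynomial.C (Ideal.Quotient.mk J b)) - β b) := by ring
            rw [e]
            refine Ideal.sub_mem _ hαg ?_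
            rw [zero_add, pow_one]
            exact h3 b
          have h7 := hβ 0 (by omega) b h6
          rw [zero_add, pow_one] at h7
          rw [hg, ← hb, Ideal.Quotient.eq_zero_iff_mem.2 h7, map_zero]
        · haveI : Nonempty (ULift.{u} (Fin n)) := ⟨⟨⟨0, hn1⟩⟩⟩
          have hcard : Fintype.card (ULift.{u} (Fin n)) = n := by simp
          exact eq_zero_of_homogeneous J s K α β h1 h2 h3 (ULift.{u} (Fin n)) (hinj _)
            (by rw [hcard]; exact hβ n (by omega)) g (by rw [hcard]; exact hgh) hgτ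
            (by rw [hcard]; exact hαg)
      rwa [hg0, sub_zero] at hrest
  exact main m le_rfl

include h1 h2 h3 in
theorem exists_alpha_sub_mem (hK : ∀ n, ∀ e ∈ K ^ n, ∃ y ∈ J ^ n, β y = e) (b : B) (n : ℕ) :
    ∃ f, α f - β b ∈ K ^ n := by
  induction n with
  | zero => exact ⟨0, by simp⟩
  | succ n ih =>
    rcases Nat.eq_zero_or_pos n with rfl | hn1
    · exact ⟨MvPolynomial.C (Ideal.Quotient.mk J b), by rw [zero_add, pow_one]; exact h3 b⟩
    · obtain ⟨f, hf⟩ := ih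
      haveI : Nonempty (ULift.{u} (Fin n)) := ⟨⟨⟨0, hn1⟩⟩⟩
      have hcard : Fintype.card (ULift.{u} (Fin n)) = n := by simp
      rw [← hcard] at hf ⊢
      obtain ⟨y', hy'J, hy'⟩ := hK _ _ hf
      obtain ⟨z, hz⟩ := CanonMap.canonJ_surjective B J (ULift.{u} (Fin n))
        (CanonMap.qJ B J _ ⟨y', hy'J⟩)
      obtain ⟨y, hy1, hy2⟩ := key J s K α β h1 h2 h3 z
      refine ⟨f - G J s _ z, ?_⟩
      have h4 : (y : B) - y' ∈ J ^ (Fintype.card (ULift.{u} (Fin n)) + 1) := by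
        have h5 : CanonMap.qJ B J _ (y - ⟨y', hy'J⟩) = 0 := by
          rw [map_sub, ← hy1, hz, sub_self]
        exact (CanonMap.qJ_eq_zero_iff B J _ _).1 h5
      have h6 : β ((y : B) - y') ∈ K ^ (Fintype.card (ULift.{u} (Fin n)) + 1) := by
        have h7 : (J ^ (Fintype.card (ULift.{u} (Fin n)) + 1)).map β ≤
            K ^ (Fintype.card (ULift.{u} (Fin n)) + 1) := by
          rw [Ideal.map_pow]
          exact Ideal.pow_right_mono (Ideal.map_le_iff_le_comap.2 h2) _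
        exact h7 (Ideal.mem_map_of_mem β h4)
      have e : α (f - G J s _ z) - β b = - (α (G J s _ z) - β (y : B)) - β ((y : B) - y') := by
        rw [map_sub, map_sub, hy']
        ring
      rw [e]
      exact Ideal.sub_mem _ (Ideal.neg_mem_iff _ |>.2 hy2) h6

end Abstract

section Lift

variable {A : Type u} [CommRing A]

theorem exists_factor {R E T : Type*} [CommRing R] [CommRing E] [CommRing T] [Algebra A R]
    [Algebra A E] [Algebra A T] (θ : R →ₐ[A] E) (hθ : Function.Surjective θ) (ψ : R →ₐ[A] T)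
    (h : ∀ f, θ f = 0 → ψ f = 0) : ∃ v : E →ₐ[A] T, ∀ f, v (θ f) = ψ f := by
  let e := Ideal.quotientKerAlgEquivOfSurjective hθ
  let l : (R ⧸ RingHom.ker θ) →ₐ[A] T := Ideal.Quotient.liftₐ (RingHom.ker θ) ψ (fun f hf => h f hf)
  refine ⟨l.comp e.symm.toAlgHom, ?_⟩
  intro f
  have h1 : e.symm (θ f) = Ideal.Quotient.mk _ f := by
    rw [AlgEquiv.symm_apply_eq]
    rfl
  change l (e.symm (θ f)) = _
  rw [h1]
  rfl

end Lift

section Main

variable {A B : Type u} [CommRing A] [CommRing B] [Algebra A B] (J : Ideal B)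
  (s : J.Cotangent →ₗ[B ⧸ J] (J.Cotangent →₀ (B ⧸ J)))

theorem backward_aux [Algebra.FormallySmooth A (B ⧸ J)]
    (hs : proj J ∘ₗ s = LinearMap.id)
    (hinj : ∀ (ι : Type u) [Fintype ι] [Nonempty ι], Function.Injective (CanonMap.canonJ B J ι))
    {T D : Type u} [CommRing T] [CommRing D] [Algebra A T] [Algebra A D] (q : T →ₐ[A] D)
    (u : B →ₐ[A] D) (hq : Groth.Agent.Ega41.AdicRed.SmallTest J q u) (k : ℕ)
    (hk : ∀ x ∈ J ^ k, u x = 0) :
    ∃ v : B →ₐ[A] T, q.comp v = u := by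
  classical
  obtain ⟨m, hm⟩ : ∃ m, m = k + 2 := ⟨_, rfl⟩
  have hmJ : J ^ m ≤ J := Ideal.pow_le_self (by omega)
  have hmk : J ^ m ≤ J ^ k := Ideal.pow_le_pow_right (by omega)
  let β : B →ₐ[A] B ⧸ J ^ m := Ideal.Quotient.mkₐ A (J ^ m)
  have hβs : Function.Surjective β := Ideal.Quotient.mk_surjective
  let ubar : (B ⧸ J ^ m) →ₐ[A] D := Ideal.Quotient.liftₐ (J ^ m) u (fun x hx => hk x (hmk hx))
  have hubar : ∀ b, ubar (β b) = u b := fun b => rfl
  obtain ⟨K, hK⟩ : ∃ K, K = J.map β := ⟨_, rfl⟩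
  have hKn : ∀ n, K ^ n = (J ^ n).map β := by
    intro n
    rw [hK, Ideal.map_pow]
  have hKe : ∀ n, ∀ e ∈ K ^ n, ∃ y ∈ J ^ n, β y = e := by
    intro n e he
    rw [hKn] at he
    exact (Ideal.mem_map_iff_of_surjective β hβs).1 he
  have hKm : K ^ m = ⊥ := by
    rw [hKn]
    exact Ideal.map_quotient_self _
  have hKmem : ∀ n < m, ∀ y, β y ∈ K ^ (n + 1) → y ∈ J ^ (n + 1) := by
    intro n hn y hy
    obtain ⟨y', hy', hyy'⟩ := hKe _ _ hy
    have h1 : y - y' ∈ J ^ m := by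
      rw [← Ideal.Quotient.eq_zero_iff_mem, map_sub, sub_eq_zero]
      exact hyy'.symm
    have h2 : y - y' ∈ J ^ (n + 1) := Ideal.pow_le_pow_right (by omega) h1
    have e : y = (y - y') + y' := by ring
    rw [e]
    exact Ideal.add_mem _ h2 hy'
  -- the section `σ`
  let π : (B ⧸ J ^ m) →ₐ[A] B ⧸ J := Ideal.Quotient.factorₐ A hmJ
  have hπs : Function.Surjective π := Ideal.Quotient.factor_surjective hmJ
  have hπK : ∀ y, π y = 0 → y ∈ K := by
    intro y hy
    obtain ⟨b, rfl⟩ := Ideal.Quotient.mk_surjective y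
    have hb : b ∈ J := Ideal.Quotient.eq_zero_iff_mem.1 hy
    rw [hK]
    exact Ideal.mem_map_of_mem β hb
  have hπnil : IsNilpotent (RingHom.ker π) := by
    refine ⟨m, ?_⟩
    rw [Ideal.zero_eq_bot, eq_bot_iff]
    exact (Ideal.pow_right_mono (I := RingHom.ker π) (J := K) (fun y hy => hπK y hy) m).trans hKm.le
  obtain ⟨σ, hσ⟩ : ∃ σ : (B ⧸ J) →ₐ[A] B ⧸ J ^ m, ∀ c, π (σ c) = c :=
    ⟨Algebra.FormallySmooth.liftOfSurjective (AlgHom.id A _) π hπs hπnil,
      fun c => Algebra.FormallySmooth.liftOfSurjective_apply _ _ _ _ c⟩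
  have hσK : ∀ b, σ (Ideal.Quotient.mk J b) - β b ∈ K := by
    intro b
    apply hπK
    rw [map_sub, hσ]
    exact sub_self _
  -- the map `g : B/J → T`
  have hqnil : IsNilpotent (RingHom.ker q) := by
    refine ⟨2, ?_⟩
    rw [Ideal.zero_eq_bot, eq_bot_iff, pow_two, Ideal.mul_le]
    intro x hx y hy
    exact hq.sq x y hx hy
  obtain ⟨g, hg⟩ : ∃ g : (B ⧸ J) →ₐ[A] T, ∀ c, q (g c) = ubar (σ c) :=
    ⟨Algebra.FormallySmooth.liftOfSurjective (ubar.comp σ) q hq.surj hqnil,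
      fun c => Algebra.FormallySmooth.liftOfSurjective_apply _ _ _ _ c⟩
  choose x hx using J.toCotangent_surjective
  choose t ht using fun p => hq.surj (u (x p))
  obtain ⟨θ₀, hθ₀C, hθ₀X⟩ : ∃ θ₀ : MvPolynomial J.Cotangent (B ⧸ J) →ₐ[A] B ⧸ J ^ m,
      (∀ c, θ₀ (MvPolynomial.C c) = σ c) ∧ (∀ p, θ₀ (MvPolynomial.X p) = β (x p)) :=
    ⟨MvPolynomial.aevalTower σ (fun p => β (x p)), fun c => MvPolynomial.aevalTower_C _ _ _,
      fun p => MvPolynomial.aevalTower_X _ _ _⟩
  obtain ⟨ψ₀, hψ₀C, hψ₀X⟩ : ∃ ψ₀ : MvPolynomial J.Cotangent (B ⧸ J) →ₐ[A] T,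
      (∀ c, ψ₀ (MvPolynomial.C c) = g c) ∧ (∀ p, ψ₀ (MvPolynomial.X p) = t p) :=
    ⟨MvPolynomial.aevalTower g t, fun c => MvPolynomial.aevalTower_C _ _ _,
      fun p => MvPolynomial.aevalTower_X _ _ _⟩
  have hqψ₀ : ∀ f, q (ψ₀ f) = ubar (θ₀ f) := by
    intro f
    induction f using MvPolynomial.induction_on with
    | C a => rw [hψ₀C, hθ₀C, hg]
    | add f g hf hg => rw [map_add, map_add, map_add, map_add, hf, hg]
    | mul_X f p hf =>
      rw [map_mul, map_mul, map_mul, map_mul, hf, hψ₀X, hθ₀X, ht, hubar]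
  obtain ⟨θ, hθ⟩ : ∃ θ : MvPolynomial J.Cotangent (B ⧸ J) →ₐ[A] B ⧸ J ^ m,
      ∀ f, θ f = θ₀ (tau J s f) := ⟨θ₀.comp ((tau J s).restrictScalars A), fun f => rfl⟩
  obtain ⟨ψ, hψ⟩ : ∃ ψ : MvPolynomial J.Cotangent (B ⧸ J) →ₐ[A] T,
      ∀ f, ψ f = ψ₀ (tau J s f) := ⟨ψ₀.comp ((tau J s).restrictScalars A), fun f => rfl⟩
  have hqψ : ∀ f, q (ψ f) = ubar (θ f) := fun f => by rw [hψ, hθ]; exact hqψ₀ _
  have hθτ : ∀ f, θ (tau J s f) = θ f := fun f => by rw [hθ, hθ, tau_tau J s hs]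
  have hψτ : ∀ f, ψ (tau J s f) = ψ f := fun f => by rw [hψ, hψ, tau_tau J s hs]
  -- conditions for the comparison
  have hlin : ∀ f : J.Cotangent →₀ (B ⧸ J), ∃ y : J, J.toCotangent y = proj J f ∧
      θ₀ (SymFree.linForm (bas J) f) - β y ∈ K ^ 2 := by
    intro f
    induction f using Finsupp.induction_linear with
    | zero => exact ⟨0, by rw [map_zero, map_zero], by simp⟩
    | add f f' hf hf' =>
      obtain ⟨y, hy1, hy2⟩ := hf
      obtain ⟨y', hy1', hy2'⟩ := hf'
      refine ⟨y + y', by rw [map_add, map_add, hy1, hy1'], ?_⟩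
      have e : θ₀ (SymFree.linForm (bas J) (f + f')) - β ((y + y' : J) : B) =
          (θ₀ (SymFree.linForm (bas J) f) - β y) + (θ₀ (SymFree.linForm (bas J) f') - β y') := by
        rw [map_add, map_add]
        change _ - β ((y : B) + y') = _
        rw [map_add]
        ring
      rw [e]
      exact Ideal.add_mem _ hy2 hy2'
    | single p c =>
      obtain ⟨b, rfl⟩ := Ideal.Quotient.mk_surjective c
      refine ⟨b • x p, ?_, ?_⟩
      · rw [map_smul, hx, Finsupp.linearCombination_single, id, smul_cot]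
      · have e1 : Finsupp.single p (Ideal.Quotient.mk J b) = (Ideal.Quotient.mk J b) • (bas J p) := by
          rw [Finsupp.coe_basisSingleOne, Finsupp.smul_single, smul_eq_mul, mul_one]
        rw [e1, map_smul, SymFree.linForm_basis, MvPolynomial.smul_eq_C_mul, map_mul,
          hθ₀C, hθ₀X]
        have e2 : σ (Ideal.Quotient.mk J b) * β (x p) - β ((b • x p : J) : B) =
            (σ (Ideal.Quotient.mk J b) - β b) * β (x p) := by
          change _ - β (b * (x p : B)) = _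
          rw [map_mul]
          ring
        rw [e2, pow_two]
        refine Ideal.mul_mem_mul (hσK b) ?_
        rw [hK]
        exact Ideal.mem_map_of_mem β (x p).2
  obtain ⟨βr, hβr⟩ : ∃ βr : B →+* B ⧸ J ^ m, ∀ b, βr b = β b := ⟨β, fun _ => rfl⟩
  obtain ⟨θr, hθr⟩ : ∃ θr : MvPolynomial J.Cotangent (B ⧸ J) →+* B ⧸ J ^ m, ∀ f, θr f = θ f :=
    ⟨θ, fun _ => rfl⟩
  have h2 : ∀ y ∈ J, βr y ∈ K := by
    intro y hy
    rw [hK, hβr]
    exact Ideal.mem_map_of_mem β hy
  have h1 : ∀ y : J, θr (L J s (J.toCotangent y)) - βr y ∈ K ^ 2 := by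
    intro y
    obtain ⟨y', hy1, hy2⟩ := hlin (s (J.toCotangent y))
    have h3 : proj J (s (J.toCotangent y)) = J.toCotangent y := DFunLike.congr_fun hs _
    rw [h3, Ideal.toCotangent_eq] at hy1
    have h4 : θr (L J s (J.toCotangent y)) = θ₀ (SymFree.linForm (bas J) (s (J.toCotangent y))) := by
      rw [hθr, hθ, tau_L J s hs]
      rfl
    rw [h4, hβr]
    have e : θ₀ (SymFree.linForm (bas J) (s (J.toCotangent y))) - β y =
        (θ₀ (SymFree.linForm (bas J) (s (J.toCotangent y))) - β y') + β ((y' : B) - y) := by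
      rw [map_sub]; ring
    rw [e]
    refine Ideal.add_mem _ hy2 ?_
    rw [hKn]
    exact Ideal.mem_map_of_mem β hy1
  have h3 : ∀ b, θr (MvPolynomial.C (Ideal.Quotient.mk J b)) - βr b ∈ K := by
    intro b
    have h4 : θr (MvPolynomial.C (Ideal.Quotient.mk J b)) = σ (Ideal.Quotient.mk J b) := by
      rw [hθr, hθ, tau, MvPolynomial.aeval_C]
      exact hθ₀C _
    rw [h4, hβr]
    exact hσK b
  have hKe' : ∀ n, ∀ e ∈ K ^ n, ∃ y ∈ J ^ n, βr y = e := by
    intro n e he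
    obtain ⟨y, hy, hye⟩ := hKe n e he
    exact ⟨y, hy, (hβr y).trans hye⟩
  have hθs : Function.Surjective θ := by
    intro e
    obtain ⟨b, rfl⟩ := hβs e
    obtain ⟨f, hf⟩ := exists_alpha_sub_mem J s K θr βr h1 h2 h3 hKe' b m
    rw [hKm, Ideal.mem_bot, sub_eq_zero, hθr, hβr] at hf
    exact ⟨f, hf⟩
  have hθrτ : ∀ f, θr (tau J s f) = θr f := fun f => by rw [hθr, hθr, hθτ]
  have hψX : ∀ f ∈ MvPolynomial.idealOfVars J.Cotangent (B ⧸ J), ∀ y, q y = 0 → ψ f * y = 0 := by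
    intro f hf
    induction hf using Submodule.span_induction with
    | mem f hf =>
      obtain ⟨p, rfl⟩ := hf
      intro y hy
      have h4 : θ (MvPolynomial.X p) ∈ K := by
        rw [← hθτ, ← hθr, tau_X]
        exact alpha_L_mem J s K θr βr h1 h2 p
      rw [← pow_one K] at h4
      obtain ⟨b, hb, hbe⟩ := hKe 1 _ h4
      rw [pow_one] at hb
      refine hq.kill b hb _ ?_ y hy
      rw [hqψ, ← hbe, hubar]
    | zero => intro y _; rw [map_zero, zero_mul]
    | add f f' _ _ hf hf' => intro y hy; rw [map_add, add_mul, hf y hy, hf' y hy, add_zero]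
    | smul a f _ hf => intro y hy; rw [smul_eq_mul, map_mul, mul_assoc, hf y hy, mul_zero]
  have hψk : ∀ f ∈ MvPolynomial.idealOfVars J.Cotangent (B ⧸ J) ^ k, q (ψ f) = 0 := by
    intro f hf
    rw [hqψ]
    have h4 := alpha_vars J s K θr βr h1 h2 hθrτ k f hf
    obtain ⟨b, hb, hbe⟩ := hKe k _ h4
    rw [← hθr, ← hbe]
    exact hk b hb
  have hψ0 : ∀ f ∈ MvPolynomial.idealOfVars J.Cotangent (B ⧸ J) ^ m, ψ f = 0 := by
    intro f hf
    have h4 : f ∈ MvPolynomial.idealOfVars J.Cotangent (B ⧸ J) *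
        MvPolynomial.idealOfVars J.Cotangent (B ⧸ J) ^ k := by
      rw [← pow_succ']
      exact Ideal.pow_le_pow_right (by omega) hf
    refine Submodule.mul_induction_on h4 (fun a ha b hb => ?_) (fun a b ha hb => ?_)
    · rw [map_mul]; exact hψX a ha _ (hψk b hb)
    · rw [map_add, ha, hb, add_zero]
  have hKmem' : ∀ n < m, ∀ y, βr y ∈ K ^ (n + 1) → y ∈ J ^ (n + 1) := by
    intro n hn y hy
    rw [hβr] at hy
    exact hKmem n hn y hy
  have hker : ∀ f, θ f = 0 → ψ f = 0 := by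
    intro f hf
    rw [← hψτ]
    apply hψ0
    have h5 : θr (tau J s f) = 0 := by rw [hθr, hθτ, hf]
    exact mem_pow_of_alpha_eq_zero J s K θr βr h1 h2 h3 hinj hθrτ m hKmem' (tau J s f)
      (tau_tau J s hs f) h5
  obtain ⟨v, hv⟩ := exists_factor θ hθs ψ hker
  refine ⟨v.comp β, ?_⟩
  ext b
  obtain ⟨f, hf⟩ := hθs (β b)
  rw [AlgHom.comp_apply, AlgHom.comp_apply, ← hf, hv, hqψ, hf, hubar]

/-- The backward implication. -/
theorem backward [Algebra.FormallySmooth A (B ⧸ J)] (hproj : Module.Projective (B ⧸ J) J.Cotangent)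
    (hsym : PP16.SymGrBijective B J) : CAlgX.IsAdicFormallySmooth A B J := by
  obtain ⟨s, hs⟩ := hproj.out
  rw [CanonMap.symGrBijective_iff] at hsym
  apply Groth.Agent.Ega41.AdicRed.isAdicFormallySmooth_of_small
  intro T D _ _ _ _ q u hq ⟨k, hk⟩
  exact backward_aux J s (LinearMap.ext hs) hsym q u hq k hk

end Main

end K99.SymBwd
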