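import Groth.Agent.EGA41.K99.SymKey
import Groth.Agent.Ega41.OmegaProj
import Groth.Agent.Ega41.AdicRed
import Mathlib.RingTheory.Smooth.Basic

/-!
If `B` is formally smooth over `A` for the `J`-adic topology and `B/J` is formally smooth over `A`, then `J/J²` is
projective over `B/J` and `Sym(J/J²) → gr_J(B)` is bijective.
-/

set_option autoImplicit false
universe u v w

open Groth.Agent.Ega4late.H516 Groth.Agent.Ega4late.H520

namespace K99.SymFwd

open K99.SymKey

variable {A B : Type u} [CommRing A] [CommRing B] [Algebra A B] (J : Ideal B)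

theorem exists_derivation [Algebra.FormallySmooth A (B ⧸ J)] :
    ∃ D₀ : Derivation A B J.Cotangent, ∀ x : J, D₀ x = J.toCotangent x := by
  have hle : J ^ 2 ≤ J := Ideal.pow_le_self two_ne_zero
  let q : (B ⧸ J ^ 2) →ₐ[A] B ⧸ J := Ideal.Quotient.factorₐ A hle
  have hq : Function.Surjective q := Ideal.Quotient.factor_surjective hle
  have hker : ∀ y, q y = 0 ↔ y ∈ J.cotangentIdeal := by
    intro y
    obtain ⟨b, rfl⟩ := Ideal.Quotient.mk_surjective y
    rw [Ideal.mk_mem_cotangentIdeal]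
    change Ideal.Quotient.mk J b = 0 ↔ _
    exact Ideal.Quotient.eq_zero_iff_mem
  have hnil : IsNilpotent (RingHom.ker q) := by
    have hk : RingHom.ker q = J.cotangentIdeal := Ideal.ext hker
    exact ⟨2, by rw [hk]; exact J.cotangentIdeal_square⟩
  obtain ⟨σ, hσ⟩ : ∃ σ : (B ⧸ J) →ₐ[A] B ⧸ J ^ 2, ∀ c, q (σ c) = c :=
    ⟨Algebra.FormallySmooth.liftOfSurjective (AlgHom.id A _) q hq hnil,
      fun c => Algebra.FormallySmooth.liftOfSurjective_apply _ _ _ _ c⟩
  let j := J.cotangentToQuotientSquare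
  have hj : Function.Injective j := J.cotangentToQuotientSquare_injective
  have hmem : ∀ b : B, Ideal.Quotient.mk (J ^ 2) b - σ (Ideal.Quotient.mk J b) ∈ J.cotangentIdeal := by
    intro b
    rw [← hker, map_sub, hσ]
    exact sub_self _
  have hex : ∀ b : B, ∃ x, j x = Ideal.Quotient.mk (J ^ 2) b - σ (Ideal.Quotient.mk J b) := by
    intro b
    have h1 : Ideal.Quotient.mk (J ^ 2) b - σ (Ideal.Quotient.mk J b) ∈
        J.cotangentIdeal.restrictScalars B := hmem b
    rw [← Ideal.range_cotangentToQuotientSquare] at h1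
    exact h1
  choose d hd using hex
  refine ⟨Derivation.mk'
    { toFun := d
      map_add' := fun a b => hj (by rw [map_add j, hd, hd, hd, map_add, map_add, map_add]; ring)
      map_smul' := fun a b => hj (by
        rw [RingHom.id_apply, LinearMap.map_smul_of_tower, hd, hd, Algebra.smul_def, map_mul, map_mul,
          map_mul, Algebra.smul_def, mul_sub]
        congr 2
        exact σ.commutes a) } ?_, ?_⟩
  · intro a b
    apply hj
    change j (d (a * b)) = j (a • d b + b • d a)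
    rw [map_add j, map_smul j, map_smul j, hd, hd, hd, map_mul, map_mul, map_mul, Algebra.smul_def,
      Algebra.smul_def, Ideal.Quotient.algebraMap_eq]
    have h2 : (Ideal.Quotient.mk (J ^ 2) a - σ (Ideal.Quotient.mk J a)) *
        (Ideal.Quotient.mk (J ^ 2) b - σ (Ideal.Quotient.mk J b)) = 0 := by
      have := Ideal.mul_mem_mul (hmem a) (hmem b)
      rwa [← pow_two, J.cotangentIdeal_square] at this
    linear_combination (-1 : B ⧸ J ^ 2) * h2
  · intro x
    apply hj
    change j (d x) = _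
    rw [hd, Ideal.Quotient.eq_zero_iff_mem.2 x.2, map_zero, sub_zero]
    exact (J.toCotangent_to_quotient_square x).symm

/-- projectivity -/
theorem exists_section [Algebra.FormallySmooth A (B ⧸ J)] (h : CAlgX.IsAdicFormallySmooth A B J) :
    ∃ s : J.Cotangent →ₗ[B ⧸ J] (J.Cotangent →₀ (B ⧸ J)), proj J ∘ₗ s = LinearMap.id := by
  obtain ⟨D₀, hD₀⟩ := exists_derivation (A := A) J
  have hkill : ∀ b ∈ J ^ 1, ∀ m : (J.Cotangent →₀ (B ⧸ J)), b • m = 0 := by
    intro b hb m
    rw [pow_one] at hb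
    rw [← algebraMap_smul (B ⧸ J) b m, Ideal.Quotient.algebraMap_eq,
      Ideal.Quotient.eq_zero_iff_mem.2 hb, zero_smul]
  have hsurj : Function.Surjective (proj J) := by
    intro p
    exact ⟨Finsupp.single p 1, by rw [Finsupp.linearCombination_single, one_smul]; rfl⟩
  obtain ⟨D', hD'⟩ := Groth.Agent.Ega41.OmegaProj.exists_derivation_lift h 1 hkill
    ((proj J).restrictScalars B) hsurj D₀
  -- the induced map
  let g : J →ₗ[B] (J.Cotangent →₀ (B ⧸ J)) :=
    { toFun := fun x => D' x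
      map_add' := fun x y => map_add D' _ _
      map_smul' := fun b x => by
        change D' (b * (x : B)) = b • D' x
        rw [D'.leibniz, hkill x (by rw [pow_one]; exact x.2), add_zero] }
  have hg : (J • ⊤ : Submodule B J) ≤ LinearMap.ker g := by
    rw [Submodule.smul_le]
    intro b hb x _
    rw [LinearMap.mem_ker, map_smul]
    exact hkill b (by rwa [pow_one]) _
  let s₀ : J.Cotangent →ₗ[B] (J.Cotangent →₀ (B ⧸ J)) := Submodule.liftQ _ g hg
  have hs₀ : ∀ x : J, s₀ (J.toCotangent x) = D' x := fun x => rfl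
  let s : J.Cotangent →ₗ[B ⧸ J] (J.Cotangent →₀ (B ⧸ J)) :=
    { toFun := s₀
      map_add' := s₀.map_add
      map_smul' := by
        intro c p
        obtain ⟨b, rfl⟩ := Ideal.Quotient.mk_surjective c
        rw [smul_cot, map_smul]
        exact (algebraMap_smul (B ⧸ J) b (s₀ p)).symm }
  refine ⟨s, ?_⟩
  ext p
  obtain ⟨x, rfl⟩ := J.toCotangent_surjective p
  change proj J (s₀ (J.toCotangent x)) = _
  rw [hs₀]
  exact (hD' x).trans (hD₀ x)

/-- The comparison map, abstractly. -/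
theorem exists_chi (h : CAlgX.IsAdicFormallySmooth A B J) (D₀ : Derivation A B J.Cotangent)
    (hD₀ : ∀ x : J, D₀ x = J.toCotangent x) {R : Type u} [CommRing R] [Algebra A R] (V : Ideal R)
    (c : (B ⧸ J) →ₐ[A] R) (L : J.Cotangent →+ R)
    (hL : ∀ (b : B) m, L (b • m) = c (Ideal.Quotient.mk J b) * L m) (hLV : ∀ m, L m ∈ V)
    (n : ℕ) (hn1 : 1 ≤ n) :
    ∃ (E : Type u) (_ : CommRing E) (K : Ideal E) (α : R →+* E) (χ : B →+* E),
      K ^ (n + 1) = ⊥ ∧ (∀ f, α f = 0 → f ∈ V ^ (n + 1)) ∧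
      (∀ x : J, α (L (J.toCotangent x)) - χ x ∈ K ^ 2) ∧ (∀ x ∈ J, χ x ∈ K) ∧
      (∀ b, α (c (Ideal.Quotient.mk J b)) - χ b ∈ K) := by
  -- the map to `R / V²`
  let u : B →ₐ[A] (R ⧸ V ^ 2) :=
    { toFun := fun b => Ideal.Quotient.mk (V ^ 2) (c (Ideal.Quotient.mk J b) + L (D₀ b))
      map_one' := by simp
      map_mul' := fun a b => by
        rw [← map_mul, Ideal.Quotient.eq, D₀.leibniz, map_add L, hL, hL, map_mul, map_mul]
        have e : c (Ideal.Quotient.mk J a) * c (Ideal.Quotient.mk J b) +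
            (c (Ideal.Quotient.mk J a) * L (D₀ b) + c (Ideal.Quotient.mk J b) * L (D₀ a)) -
            (c (Ideal.Quotient.mk J a) + L (D₀ a)) * (c (Ideal.Quotient.mk J b) + L (D₀ b)) =
            - (L (D₀ a) * L (D₀ b)) := by ring
        rw [e, neg_mem_iff, pow_two]
        exact Ideal.mul_mem_mul (hLV _) (hLV _)
      map_zero' := by simp
      map_add' := fun a b => by
        rw [← map_add (Ideal.Quotient.mk (V ^ 2)), map_add D₀, map_add L, map_add (Ideal.Quotient.mk J),
          map_add c]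
        congr 1
        ring
      commutes' := fun a => by
        rw [D₀.map_algebraMap, map_zero, add_zero]
        exact congrArg _ (c.commutes a) }
  have hu : ∀ b, u b = Ideal.Quotient.mk (V ^ 2) (c (Ideal.Quotient.mk J b) + L (D₀ b)) :=
    fun b => rfl
  have huJ : ∀ x ∈ J, u x ∈ V.map (Ideal.Quotient.mk (V ^ 2)) := by
    intro x hx
    rw [hu, Ideal.Quotient.eq_zero_iff_mem.2 hx, map_zero, zero_add]
    exact Ideal.mem_map_of_mem _ (hLV _)
  have hu2 : ∃ k : ℕ, ∀ x ∈ J ^ k, u x = 0 := by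
    refine ⟨2, fun x hx => ?_⟩
    have h1 : (J ^ 2).map u ≤ ⊥ := by
      rw [Ideal.map_pow]
      have h2 : (J.map u) ^ 2 ≤ (V.map (Ideal.Quotient.mk (V ^ 2))) ^ 2 :=
        Ideal.pow_right_mono (Ideal.map_le_iff_le_comap.2 huJ) 2
      refine h2.trans ?_
      rw [← Ideal.map_pow, Ideal.map_quotient_self]
    exact h1 (Ideal.mem_map_of_mem u hx)
  have hle : V ^ (n + 1) ≤ V ^ 2 := Ideal.pow_le_pow_right (by omega)
  let q : (R ⧸ V ^ (n + 1)) →ₐ[A] (R ⧸ V ^ 2) := Ideal.Quotient.factorₐ A hle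
  have hq : Function.Surjective q := Ideal.Quotient.factor_surjective hle
  obtain ⟨K, hK⟩ : ∃ K, K = V.map (Ideal.Quotient.mk (V ^ (n + 1))) := ⟨_, rfl⟩
  have hKn : K ^ (n + 1) = ⊥ := by
    rw [hK, ← Ideal.map_pow, Ideal.map_quotient_self]
  have hqK : ∀ y, q y = 0 → y ∈ K ^ 2 := by
    intro y hy
    obtain ⟨f, rfl⟩ := Ideal.Quotient.mk_surjective y
    have hf : f ∈ V ^ 2 := Ideal.Quotient.eq_zero_iff_mem.1 hy
    rw [hK, ← Ideal.map_pow]
    exact Ideal.mem_map_of_mem _ hf
  have hnil : IsNilpotent (RingHom.ker q) := by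
    refine ⟨n + 1, ?_⟩
    rw [Ideal.zero_eq_bot, eq_bot_iff]
    refine (Ideal.pow_right_mono (I := RingHom.ker q) (J := K) ?_ (n + 1)).trans hKn.le
    intro y hy
    exact Ideal.pow_le_self two_ne_zero (hqK y hy)
  obtain ⟨χ, hχ⟩ := Groth.Agent.Ega41.AdicRed.exists_lift' h q hq hnil u hu2
  have hχ' : ∀ b, q (χ b) = u b := fun b => DFunLike.congr_fun hχ b
  have key1 : ∀ x : J, Ideal.Quotient.mk (V ^ (n + 1)) (L (J.toCotangent x)) - χ x ∈ K ^ 2 := by
    intro x
    apply hqK
    rw [map_sub, hχ', hu, Ideal.Quotient.eq_zero_iff_mem.2 x.2, map_zero, zero_add, hD₀]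
    exact sub_self _
  have hLK : ∀ m, Ideal.Quotient.mk (V ^ (n + 1)) (L m) ∈ K := by
    intro m
    rw [hK]
    exact Ideal.mem_map_of_mem _ (hLV _)
  have key2 : ∀ x ∈ J, χ x ∈ K := by
    intro x hx
    have e : χ x = Ideal.Quotient.mk (V ^ (n + 1)) (L (J.toCotangent ⟨x, hx⟩)) -
        (Ideal.Quotient.mk (V ^ (n + 1)) (L (J.toCotangent ⟨x, hx⟩)) - χ x) := by ring
    rw [e]
    exact K.sub_mem (hLK _) (Ideal.pow_le_self two_ne_zero (key1 ⟨x, hx⟩))
  have key3 : ∀ b, Ideal.Quotient.mk (V ^ (n + 1)) (c (Ideal.Quotient.mk J b)) - χ b ∈ K := by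
    intro b
    have e : Ideal.Quotient.mk (V ^ (n + 1)) (c (Ideal.Quotient.mk J b)) - χ b =
        (Ideal.Quotient.mk (V ^ (n + 1)) (c (Ideal.Quotient.mk J b) + L (D₀ b)) - χ b) -
        Ideal.Quotient.mk (V ^ (n + 1)) (L (D₀ b)) := by
      rw [map_add]; ring
    rw [e]
    refine K.sub_mem (Ideal.pow_le_self two_ne_zero (hqK _ ?_)) (hLK _)
    rw [map_sub, hχ', hu]
    exact sub_self _
  exact ⟨R ⧸ V ^ (n + 1), inferInstance, K, Ideal.Quotient.mk _, χ, hKn,
    fun f hf => Ideal.Quotient.eq_zero_iff_mem.1 hf, key1, key2, key3⟩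

/-- injectivity of the canonical maps -/
theorem canonJ_injective [Algebra.FormallySmooth A (B ⧸ J)] (h : CAlgX.IsAdicFormallySmooth A B J)
    (ι : Type u) [Fintype ι] [Nonempty ι] : Function.Injective (CanonMap.canonJ B J ι) := by
  obtain ⟨D₀, hD₀⟩ := exists_derivation (A := A) J
  obtain ⟨s, hs⟩ := exists_section (A := A) J h
  obtain ⟨E, _, K, α, χ, hKn, hα, key1, key2, key3⟩ := exists_chi J h D₀ hD₀
    (MvPolynomial.idealOfVars J.Cotangent (B ⧸ J)) (IsScalarTower.toAlgHom A (B ⧸ J) _)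
    (L J s).toAddMonoidHom (fun b m => by
      change L J s (b • m) = MvPolynomial.C (Ideal.Quotient.mk J b) * L J s m
      rw [← smul_cot, map_smul, MvPolynomial.smul_eq_C_mul])
    (L_mem J s) (Fintype.card ι) Fintype.card_pos
  rw [injective_iff_map_eq_zero]
  intro z hz
  obtain ⟨y, hy1, hy2⟩ := key J s K α χ key1 key2 key3 z
  have hy0 : (y : B) ∈ J ^ (Fintype.card ι + 1) := by
    rw [← CanonMap.qJ_eq_zero_iff, ← hy1, hz]
  have hχy : χ (y : B) = 0 := by
    have h1 : (J ^ (Fintype.card ι + 1)).map χ ≤ ⊥ := by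
      rw [Ideal.map_pow, ← hKn]
      exact Ideal.pow_right_mono (Ideal.map_le_iff_le_comap.2 key2) _
    exact h1 (Ideal.mem_map_of_mem χ hy0)
  have hG : G J s ι z ∈ MvPolynomial.idealOfVars J.Cotangent (B ⧸ J) ^ (Fintype.card ι + 1) := by
    apply hα
    rw [hKn, Ideal.mem_bot, hχy, sub_zero] at hy2
    exact hy2
  apply G_injective J s hs
  rw [map_zero]
  exact eq_zero_of_mem_pow (G_isHomogeneous J s z) hG

/-- The forward implication. -/
theorem forward [Algebra.FormallySmooth A (B ⧸ J)] (h : CAlgX.IsAdicFormallySmooth A B J) :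
    Module.Projective (B ⧸ J) J.Cotangent ∧ PP16.SymGrBijective B J := by
  obtain ⟨s, hs⟩ := exists_section (A := A) J h
  refine ⟨Module.Projective.of_split s (proj J) hs, ?_⟩
  rw [CanonMap.symGrBijective_iff]
  intro ι _ _
  exact canonJ_injective (A := A) J h ι

end K99.SymFwd
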