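import Groth.Agent.Ega4late.H516.CanonMap
import Groth.Agent.Ega4late.H516.SymFree
import Groth.Agent.Ega4late.H520.SymSurj
import Mathlib.RingTheory.MvPolynomial.Ideal
import Mathlib.RingTheory.Ideal.Cotangent
import Mathlib.Algebra.Module.Projective

/-!
The canonical maps `Sym^n(J/J²) → Jⁿ/Jⁿ⁺¹` compared with polynomials in case `J/J²` is a direct summand of a free
`B/J`-module.
-/

set_option autoImplicit false
universe u v w

open Groth.Agent.Ega4late.H516 Groth.Agent.Ega4late.H520

namespace K99.SymKey

section Prod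

variable {E : Type*} [CommRing E] (K : Ideal E)

theorem prod_sub_prod_mem {ι : Type*} (s : Finset ι) (a b : ι → E) (hab : ∀ i, a i - b i ∈ K ^ 2)
    (hb : ∀ i, b i ∈ K) : ∏ i ∈ s, a i - ∏ i ∈ s, b i ∈ K ^ (s.card + 1) := by
  classical
  have ha : ∀ i, a i ∈ K := by
    intro i
    have : a i = (a i - b i) + b i := by ring
    rw [this]
    exact K.add_mem (Ideal.pow_le_self two_ne_zero (hab i)) (hb i)
  induction s using Finset.induction_on with
  | empty => simp
  | insert j s hj ih =>
    rw [Finset.prod_insert hj, Finset.prod_insert hj, Finset.card_insert_of_notMem hj]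
    have e : a j * ∏ i ∈ s, a i - b j * ∏ i ∈ s, b i =
        a j * (∏ i ∈ s, a i - ∏ i ∈ s, b i) + (a j - b j) * ∏ i ∈ s, b i := by ring
    rw [e]
    refine Ideal.add_mem _ ?_ ?_
    · rw [pow_succ']
      exact Ideal.mul_mem_mul (ha j) ih
    · have h1 : ∏ i ∈ s, b i ∈ K ^ s.card := by
        simpa using Ideal.prod_mem_prod (s := s) (I := fun _ => K) (x := b) (fun i _ => hb i)
      have h2 := Ideal.mul_mem_mul (hab j) h1
      rwa [← pow_add, show 2 + s.card = s.card + 1 + 1 by ring] at h2

end Prod

section Setup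

variable {B : Type u} [CommRing B] (J : Ideal B)
variable (s : J.Cotangent →ₗ[B ⧸ J] (J.Cotangent →₀ (B ⧸ J)))

/-- The basis of the free module. -/
noncomputable abbrev bas : Module.Basis J.Cotangent (B ⧸ J) (J.Cotangent →₀ (B ⧸ J)) :=
  Finsupp.basisSingleOne

/-- the projection -/
noncomputable abbrev proj : (J.Cotangent →₀ (B ⧸ J)) →ₗ[B ⧸ J] J.Cotangent :=
  Finsupp.linearCombination (B ⧸ J) id

/-- The linear form attached to an element of `J/J²`. -/
noncomputable def L : J.Cotangent →ₗ[B ⧸ J] MvPolynomial J.Cotangent (B ⧸ J) :=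
  SymFree.linForm (bas J) ∘ₗ s

theorem L_isHomogeneous (m : J.Cotangent) : (L J s m).IsHomogeneous 1 := by
  rw [L, LinearMap.comp_apply]
  exact SymFree.linForm_isHomogeneous (bas J) (s m)

theorem mem_pow_of_isHomogeneous {σ R : Type*} [CommRing R] {f : MvPolynomial σ R} {n : ℕ}
    (hf : f.IsHomogeneous n) : f ∈ MvPolynomial.idealOfVars σ R ^ n := by
  rw [MvPolynomial.mem_pow_idealOfVars_iff]
  intro x hx
  have h1 : x.degree = n := by
    have := hf (MvPolynomial.mem_support_iff.1 hx)
    rwa [Finsupp.degree_eq_weight_one]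
  exact h1.ge

theorem eq_zero_of_mem_pow {σ R : Type*} [CommRing R] {f : MvPolynomial σ R} {n : ℕ}
    (hf : f.IsHomogeneous n) (h : f ∈ MvPolynomial.idealOfVars σ R ^ (n + 1)) : f = 0 := by
  ext x
  rw [MvPolynomial.coeff_zero]
  by_contra hx
  have h1 : x.degree = n := by
    have := hf hx
    rwa [Finsupp.degree_eq_weight_one]
  rw [MvPolynomial.mem_pow_idealOfVars_iff] at h
  have h2 := h x (MvPolynomial.mem_support_iff.2 hx)
  omega

theorem L_mem (m : J.Cotangent) : L J s m ∈ MvPolynomial.idealOfVars J.Cotangent (B ⧸ J) := by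
  have := mem_pow_of_isHomogeneous (L_isHomogeneous J s m)
  rwa [pow_one] at this

theorem smul_cot (b : B) (m : J.Cotangent) : (Ideal.Quotient.mk J b) • m = b • m := by
  obtain ⟨x, rfl⟩ := J.toCotangent_surjective m
  rfl

variable (ι : Type u) [Fintype ι]

/-- The comparison map to polynomials. -/
noncomputable def G : SymmetricPower B ι J.Cotangent →+ MvPolynomial J.Cotangent (B ⧸ J) :=
  ((SymFree.toPoly ι (bas J)).toAddMonoidHom.comp (SymPow.map s).toAddMonoidHom).comp
    (SymSurj.toS (Ideal.Quotient.mk J) ι J.Cotangent (smul_cot J))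

variable {ι}

theorem G_apply (z : SymmetricPower B ι J.Cotangent) :
    G J s ι z = SymFree.toPoly ι (bas J) (SymPow.map s
      (SymSurj.toS (Ideal.Quotient.mk J) ι J.Cotangent (smul_cot J) z)) := rfl

theorem G_tprod (m : ι → J.Cotangent) :
    G J s ι (SymmetricPower.tprod B m) = ∏ i, L J s (m i) := by
  rw [G_apply, SymSurj.toS_tprod, SymPow.map_tprod, SymFree.toPoly_tprod]
  rfl

theorem G_smul (b : B) (z : SymmetricPower B ι J.Cotangent) :
    G J s ι (b • z) = MvPolynomial.C (Ideal.Quotient.mk J b) * G J s ι z := by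
  rw [G_apply, SymSurj.toS_smul, map_smul, map_smul, MvPolynomial.smul_eq_C_mul]
  rfl

theorem G_isHomogeneous (z : SymmetricPower B ι J.Cotangent) :
    (G J s ι z).IsHomogeneous (Fintype.card ι) :=
  SymFree.toPoly_isHomogeneous _ _

theorem G_injective [Nonempty ι] (hs : (proj J) ∘ₗ s = LinearMap.id) :
    Function.Injective (G J s ι) := by
  have h1 : Function.Injective (SymPow.map (ι := ι) s) := by
    apply Function.LeftInverse.injective (g := SymPow.map (ι := ι) (proj J))
    intro z
    have := SymPow.map_comp (ι := ι) (proj J) s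
    rw [hs, SymPow.map_id] at this
    exact (DFunLike.congr_fun this z).symm
  intro x y hxy
  rw [G_apply, G_apply] at hxy
  exact SymSurj.toS_injective (Ideal.Quotient.mk J) (smul_cot J) Ideal.Quotient.mk_surjective
    (h1 (SymFree.toPoly_injective _ hxy))

/-- The key comparison: symmetric tensors, elements of `J^n` and polynomials. -/
theorem key {E : Type*} [CommRing E] (K : Ideal E) (α : MvPolynomial J.Cotangent (B ⧸ J) →+* E)
    (β : B →+* E) (h1 : ∀ x : J, α (L J s (J.toCotangent x)) - β x ∈ K ^ 2)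
    (h2 : ∀ x ∈ J, β x ∈ K)
    (h3 : ∀ b, α (MvPolynomial.C (Ideal.Quotient.mk J b)) - β b ∈ K)
    (z : SymmetricPower B ι J.Cotangent) :
    ∃ y : ↥((J ^ Fintype.card ι).restrictScalars B : Submodule B B),
      CanonMap.canonJ B J ι z = CanonMap.qJ B J _ y ∧
      α (G J s ι z) - β y ∈ K ^ (Fintype.card ι + 1) := by
  have hz : z ∈ Submodule.span B (Set.range (SymmetricPower.tprod B (ι := ι) (M := J.Cotangent))) := by
    rw [SymmetricPower.span_tprod_eq_top]; trivial
  induction hz using Submodule.span_induction with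
  | mem x hx =>
    obtain ⟨m, rfl⟩ := hx
    choose x hx using fun i => J.toCotangent_surjective (m i)
    obtain rfl : (fun i => J.toCotangent (x i)) = m := funext hx
    refine ⟨⟨∏ i, (x i : B), CanonGen.prod_univ_mem _ (fun i => (x i : B)) (fun i => (x i).2)⟩, ?_, ?_⟩
    · rw [CanonMap.canonJ_tprod]
      rfl
    · rw [G_tprod, map_prod]
      change _ - β (∏ i, (x i : B)) ∈ _
      rw [map_prod]
      exact prod_sub_prod_mem K Finset.univ _ _ (fun i => h1 (x i)) (fun i => h2 _ (x i).2)
  | zero => exact ⟨0, by rw [map_zero, map_zero], by simp⟩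
  | add x y _ _ hx hy =>
    obtain ⟨a, ha1, ha2⟩ := hx
    obtain ⟨b, hb1, hb2⟩ := hy
    refine ⟨a + b, by rw [map_add, map_add, ha1, hb1], ?_⟩
    have e : α (G J s ι (x + y)) - β ((a + b : ↥((J ^ Fintype.card ι).restrictScalars B : Submodule B B)) : B) =
        (α (G J s ι x) - β a) + (α (G J s ι y) - β b) := by
      rw [map_add, map_add]
      change _ - β ((a : B) + b) = _
      rw [map_add]
      ring
    rw [e]
    exact Ideal.add_mem _ ha2 hb2
  | smul r x _ hx =>
    obtain ⟨a, ha1, ha2⟩ := hx
    refine ⟨r • a, by rw [map_smul, map_smul, ha1], ?_⟩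
    have e : α (G J s ι (r • x)) - β ((r • a : ↥((J ^ Fintype.card ι).restrictScalars B : Submodule B B)) : B) =
        α (MvPolynomial.C (Ideal.Quotient.mk J r)) * (α (G J s ι x) - β a) +
        (α (MvPolynomial.C (Ideal.Quotient.mk J r)) - β r) * β a := by
      rw [G_smul, map_mul]
      change _ - β (r * (a : B)) = _
      rw [map_mul]
      ring
    rw [e]
    refine Ideal.add_mem _ (Ideal.mul_mem_left _ _ ha2) ?_
    rw [pow_succ']
    refine Ideal.mul_mem_mul (h3 r) ?_
    have h4 : (J ^ Fintype.card ι).map β ≤ K ^ Fintype.card ι := by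
      rw [Ideal.map_pow]
      exact Ideal.pow_right_mono (Ideal.map_le_iff_le_comap.2 h2) _
    exact h4 (Ideal.mem_map_of_mem β a.2)

/-- The endomorphism of the polynomial ring given by the projector. -/
noncomputable def tau : MvPolynomial J.Cotangent (B ⧸ J) →ₐ[B ⧸ J] MvPolynomial J.Cotangent (B ⧸ J) :=
  MvPolynomial.aeval fun p => L J s p

theorem tau_X (p : J.Cotangent) : tau J s (MvPolynomial.X p) = L J s p := by
  rw [tau, MvPolynomial.aeval_X]

theorem tau_linForm (f : J.Cotangent →₀ (B ⧸ J)) :
    tau J s (SymFree.linForm (bas J) f) = SymFree.linForm (bas J) (s (proj J f)) := by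
  have : (tau J s).toLinearMap ∘ₗ SymFree.linForm (bas J) =
      SymFree.linForm (bas J) ∘ₗ s ∘ₗ proj J := by
    apply (bas J).ext
    intro p
    rw [LinearMap.comp_apply, SymFree.linForm_basis, AlgHom.toLinearMap_apply, tau_X,
      LinearMap.comp_apply, LinearMap.comp_apply, Finsupp.coe_basisSingleOne,
      Finsupp.linearCombination_single, one_smul]
    rfl
  exact DFunLike.congr_fun this f

theorem tau_L (hs : (proj J) ∘ₗ s = LinearMap.id) (m : J.Cotangent) :
    tau J s (L J s m) = L J s m := by
  have : proj J (s m) = m := DFunLike.congr_fun hs m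
  rw [L, LinearMap.comp_apply, tau_linForm, this]

theorem tau_tau (hs : (proj J) ∘ₗ s = LinearMap.id) (f : MvPolynomial J.Cotangent (B ⧸ J)) :
    tau J s (tau J s f) = tau J s f := by
  have : (tau J s).comp (tau J s) = tau J s := by
    apply MvPolynomial.algHom_ext
    intro p
    rw [AlgHom.comp_apply, tau_X, tau_L J s hs]
  exact DFunLike.congr_fun this f

theorem tau_isHomogeneous {f : MvPolynomial J.Cotangent (B ⧸ J)} {n : ℕ} (hf : f.IsHomogeneous n) :
    (tau J s f).IsHomogeneous n := by
  have := hf.aeval (fun p => L J s p) (fun p => L_isHomogeneous J s p)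
  rwa [one_mul] at this

theorem tau_homogeneousComponent (f : MvPolynomial J.Cotangent (B ⧸ J)) (n : ℕ) :
    MvPolynomial.homogeneousComponent n (tau J s f) =
      tau J s (MvPolynomial.homogeneousComponent n f) := by
  classical
  conv_lhs => rw [← MvPolynomial.sum_homogeneousComponent f]
  rw [map_sum, map_sum]
  have h1 : ∀ i, MvPolynomial.homogeneousComponent n (tau J s (MvPolynomial.homogeneousComponent i f)) =
      if n = i then tau J s (MvPolynomial.homogeneousComponent i f) else 0 := by
    intro i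
    exact MvPolynomial.homogeneousComponent_of_mem
      (tau_isHomogeneous J s (MvPolynomial.homogeneousComponent_isHomogeneous i f))
  simp only [h1]
  rw [Finset.sum_ite_eq]
  split_ifs with h
  · rfl
  · rw [MvPolynomial.homogeneousComponent_eq_zero, map_zero]
    rw [Finset.mem_range] at h
    omega

/-- Homogeneous polynomials in the image of the projector come from the symmetric power of `J/J²`. -/
theorem exists_G_eq {f : MvPolynomial J.Cotangent (B ⧸ J)} (hf : f.IsHomogeneous (Fintype.card ι)) :
    ∃ z, G J s ι z = tau J s f := by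
  have hf' : f ∈ LinearMap.range (SymFree.toPoly ι (bas J)) := by
    rw [SymFree.range_toPoly]
    exact hf
  obtain ⟨w, rfl⟩ := hf'
  obtain ⟨z, hz⟩ := SymSurj.toS_surjective (Ideal.Quotient.mk J) (smul_cot J)
    Ideal.Quotient.mk_surjective (SymPow.map (proj J) w)
  refine ⟨z, ?_⟩
  rw [G_apply, hz]
  have : (SymFree.toPoly ι (bas J)) ∘ₗ (SymPow.map s) ∘ₗ (SymPow.map (proj J)) =
      (tau J s).toLinearMap ∘ₗ SymFree.toPoly ι (bas J) := by
    apply SymPow.hom_ext
    intro m
    rw [LinearMap.comp_apply, LinearMap.comp_apply, SymPow.map_tprod, SymPow.map_tprod,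
      SymFree.toPoly_tprod, LinearMap.comp_apply, SymFree.toPoly_tprod, AlgHom.toLinearMap_apply,
      map_prod]
    refine Finset.prod_congr rfl fun i _ => ?_
    rw [tau_linForm]
  exact DFunLike.congr_fun this w

end Setup

end K99.SymKey
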